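import Cfsg.Agent.Lib.OddOrder.S9b.Family
import Cfsg.Agent.Lib.CharTheory.CyclicTI2

/-!
Peterfalvi (9.8): the non-Galois case, `P` a product of lines permuted by `W₁`.
-/

set_option autoImplicit false
set_option linter.unusedSectionVars false
set_option linter.style.haveILetI false

namespace CfsgLib.OddOrder.S9b

open Cfsg CfsgLib.CharTheory CfsgLib.OddOrder.Found
open scoped ComplexConjugate

universe u

variable {L : Type u} [Group L]

/-- The lines of the non-Galois case: `P` is the direct product of `q` subgroups of order `p` normalised by `U` and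
permuted transitively by `W₁`; `U` induces a group of order `a` on each. -/
structure IsLineSystem (P U W₁ : Subgroup L) (p q : ℕ) (ℓ : Fin q → Subgroup L) (a : ℕ) : Prop where
  le : ∀ i, ℓ i ≤ P
  card : ∀ i, Nat.card (ℓ i) = p
  U_norm : ∀ i, U ≤ Subgroup.normalizer (ℓ i : Set L)
  prod : ∃ e : (∀ i, ℓ i) ≃* P, ∀ i (z : ℓ i), (e (Pi.mulSingle i z) : L) = z
  index : ∀ i, (U ⊓ Subgroup.centralizer (ℓ i : Set L)).relIndex U = a
  trans : ∀ i j, ∃ w ∈ W₁, ℓ j = (ℓ i).map (MulAut.conj w).toMonoidHom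
  odd : Odd a
  three_le : 3 ≤ a
  two_mul : 2 * a ∣ p - 1
  bound : uBar P U ≤ a ^ (q - 1)

variable [Fintype L] {K P U W₁ W₂ : Subgroup L} {p q a : ℕ} {ℓ : Fin q → Subgroup L}

/-- `α` is non-principal on the line `ℓ i`. -/
def OnLine (ℓ : Fin q → Subgroup L) (α : P → ℂ) (i : Fin q) : Prop := ∃ z : P, (z : L) ∈ ℓ i ∧ α z ≠ 1

open Classical in
/-- The characters of `P` whose set of lines has a given property. -/
noncomputable def withSupport (ℓ : Fin q → Subgroup L) (S : (Fin q → Prop) → Prop) : Finset (P → ℂ) :=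
  haveI := Fintype.ofFinite (P →* ℂˣ)
  (Finset.univ.image fun f : P →* ℂˣ => fun z : P => (f z : ℂ)).filter fun α => S fun i => OnLine ℓ α i

namespace IsLineSystem

variable (D : IsLineSystem P U W₁ p q ℓ a) (h : CoreHyp K P U W₁ W₂ p q)
include D h

theorem le_subgroup_of_lines {X : Subgroup L} (hX : ∀ i, ℓ i ≤ X) : P ≤ X := by
  obtain ⟨e, he⟩ := D.prod
  intro z hz
  obtain ⟨f, hf⟩ := e.surjective ⟨z, hz⟩
  have hmem : f ∈ (X.comap P.subtype).comap e.toMonoidHom :=
    Subgroup.pi_mem_of_mulSingle_mem f fun i => by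
      show (e (Pi.mulSingle i (f i)) : L) ∈ X
      rw [he]; exact hX i (f i).2
  have : (e f : L) ∈ X := hmem
  rwa [hf] at this

theorem exists_onLine [P.Normal] {α : P → ℂ} (hα : IsIrrCharacter P α) (hne : α ≠ fun _ => 1) :
    ∃ i, OnLine ℓ α i := by
  letI := Fintype.ofFinite P
  obtain ⟨f, hf⟩ := exists_hom_of_degree_one (isCharacter_of_irr hα) (h.alpha_one hα)
  by_contra hno
  push Not at hno
  refine hne (funext fun z => ?_)
  have hle := D.le_subgroup_of_lines h (X := f.ker.map P.subtype) fun i w hw =>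
    ⟨⟨w, D.le i hw⟩, Units.ext (by
      have := hno i
      simp only [OnLine, not_exists, not_and, not_not] at this
      exact (congrFun hf _).symm.trans (this ⟨w, D.le i hw⟩ hw)), rfl⟩
  obtain ⟨y, hy, hyz⟩ := hle z.2
  rw [← P.subtype_injective hyz, hf]
  show ((f y : ℂˣ) : ℂ) = 1
  rw [MonoidHom.mem_ker.mp hy, Units.val_one]

/-- The elements of `U` fixing `α` are those centralizing the lines on which `α` is non-principal. -/
theorem mem_inertia_iff [P.Normal] {α : P → ℂ} (hα : IsIrrCharacter P α) {x : L} (hx : x ∈ U) :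
    x ∈ inertia P α ↔ ∀ i, OnLine ℓ α i → x ∈ Subgroup.centralizer (ℓ i : Set L) := by
  letI := Fintype.ofFinite P
  obtain ⟨f, hf⟩ := exists_hom_of_degree_one (isCharacter_of_irr hα) (h.alpha_one hα)
  have key : ∀ z : P, α z = 1 ↔ f z = 1 := fun z => by
    rw [congrFun hf z]; exact Units.val_eq_one
  let c : P →* P :=
    { toFun := fun z => ⟨x * z * x⁻¹, h.P_normal.conj_mem _ z.2 x⟩
      map_one' := Subtype.ext (by simp)
      map_mul' := fun y z => Subtype.ext (by simp [mul_assoc]) }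
  constructor
  · intro hxI i hi
    rw [Subgroup.mem_centralizer_iff]
    intro z hz
    have hz' : x * z * x⁻¹ ∈ ℓ i := (Subgroup.mem_normalizer_iff.mp (D.U_norm i hx) z).mp hz
    let d : P := c ⟨z, D.le i hz⟩ * (⟨z, D.le i hz⟩ : P)⁻¹
    have hd : f d = 1 := by
      have e1 : f (c ⟨z, D.le i hz⟩) = f ⟨z, D.le i hz⟩ := Units.ext
        ((congrFun hf _).symm.trans ((congrFun ((mem_inertia P).mp hxI) ⟨z, D.le i hz⟩).trans (congrFun hf _)))
      rw [map_mul, map_inv, e1, mul_inv_cancel]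
    set Y : Subgroup L := ℓ i ⊓ f.ker.map P.subtype with hY
    haveI := Fact.mk h.hp
    have hYbot : Y = ⊥ := by
      rcases (Nat.dvd_prime h.hp).mp (D.card i ▸ Subgroup.card_dvd_of_le (inf_le_left : Y ≤ ℓ i)) with e | e
      · exact Subgroup.card_eq_one.mp e
      · exfalso
        obtain ⟨w, hw, hw1⟩ := hi
        have hle : ℓ i ≤ Y := (Subgroup.eq_of_le_of_card_ge inf_le_left (by rw [e, D.card i])).ge
        obtain ⟨w', hw', hww⟩ := (Subgroup.mem_inf.mp (hle hw)).2
        rw [P.subtype_injective hww] at hw'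
        exact hw1 ((key w).mpr hw')
    have hmem : (d : L) ∈ Y := Subgroup.mem_inf.mpr ⟨(ℓ i).mul_mem hz' ((ℓ i).inv_mem hz), d, hd, rfl⟩
    rw [hYbot, Subgroup.mem_bot] at hmem
    have e2 : x * z * x⁻¹ * z⁻¹ = 1 := hmem
    rw [mul_inv_eq_one, mul_inv_eq_iff_eq_mul] at e2
    exact e2.symm
  · intro hall
    rw [mem_inertia]
    funext z
    let E : Subgroup L := ((f.comp c) / f).ker.map P.subtype
    have hE : P ≤ E := D.le_subgroup_of_lines h fun i w hw => ⟨⟨w, D.le i hw⟩, by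
      show f (c ⟨w, D.le i hw⟩) / f ⟨w, D.le i hw⟩ = 1
      rw [div_eq_one]
      by_cases hi : OnLine ℓ α i
      · refine congrArg f (Subtype.ext ?_)
        show x * w * x⁻¹ = w
        rw [← Subgroup.mem_centralizer_iff.mp (hall i hi) w hw, mul_inv_cancel_right]
      · simp only [OnLine, not_exists, not_and, not_not] at hi
        rw [(key _).mp (hi ⟨w, D.le i hw⟩ hw),
          (key _).mp (hi (c ⟨w, D.le i hw⟩) ((Subgroup.mem_normalizer_iff.mp (D.U_norm i hx) w).mp hw))], rfl⟩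
    obtain ⟨y, hy, hyz⟩ := hE z.2
    rw [P.subtype_injective hyz] at hy
    have : f (c z) = f z := div_eq_one.mp hy
    show α (c z) = α z
    rw [congrFun hf, congrFun hf, this]

theorem onLine_conj [P.Normal] {α : P → ℂ} {k : L} (hk : k ∈ K) (i : Fin q) :
    OnLine ℓ (conjNormFun P k α) i ↔ OnLine ℓ α i := by
  obtain ⟨z, hz, x, hx, rfl⟩ := h.exists_factor hk
  have hn : z * x ∈ Subgroup.normalizer (ℓ i : Set L) := by
    refine Subgroup.mul_mem _ (Subgroup.mem_normalizer_iff.mpr fun y => ?_) (D.U_norm i hx)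
    constructor
    · intro hy
      rw [h.comm_P z hz y (D.le i hy), mul_inv_cancel_right]; exact hy
    · intro hy
      have hyP : y ∈ P := by
        have := h.P_normal.conj_mem _ (D.le i hy) z⁻¹
        rwa [show z⁻¹ * (z * y * z⁻¹) * z⁻¹⁻¹ = y by group] at this
      rwa [h.comm_P z hz y hyP, mul_inv_cancel_right] at hy
  constructor
  · rintro ⟨w, hw, hne⟩
    exact ⟨_, (Subgroup.mem_normalizer_iff.mp hn (w : L)).mp hw, hne⟩
  · rintro ⟨w, hw, hne⟩
    refine ⟨⟨(z * x)⁻¹ * w * (z * x), by simpa using h.P_normal.conj_mem _ w.2 (z * x)⁻¹⟩,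
      (Subgroup.mem_normalizer_iff.mp hn _).mpr (by simpa [mul_assoc] using hw), fun e => hne ?_⟩
    rw [← e]
    exact congrArg α (Subtype.ext (by simp [mul_assoc]))

theorem card_centralizer_line (i : Fin q) :
    a * Nat.card ↥(U ⊓ Subgroup.centralizer (ℓ i : Set L)) = Nat.card U := by
  have h1 := Subgroup.card_mul_index ((U ⊓ Subgroup.centralizer (ℓ i : Set L)).subgroupOf U)
  rw [Nat.card_congr (Subgroup.subgroupOfEquivOfLe inf_le_left).toEquiv] at h1
  rw [← h1, mul_comm, ← D.index i]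
  rfl

theorem dvd_degIdx [P.Normal] {α : P → ℂ} (hα : IsIrrCharacter P α) (hne : α ≠ fun _ => 1) :
    a ∣ degIdx K P α := by
  obtain ⟨i, hi⟩ := D.exists_onLine h hα hne
  obtain ⟨k, hk⟩ := Subgroup.card_dvd_of_le (show inertia P α ⊓ U ≤ U ⊓ Subgroup.centralizer (ℓ i : Set L) from
    fun x hx => Subgroup.mem_inf.mpr ⟨hx.2, (D.mem_inertia_iff h hα hx.2).mp hx.1 i hi⟩)
  refine ⟨k, Nat.eq_of_mul_eq_mul_right (Nat.card_pos (α := ↥(inertia P α ⊓ U))) ?_⟩
  rw [h.degIdx_mul hα, ← D.card_centralizer_line h i, hk]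
  ring

theorem degIdx_single [P.Normal] {α : P → ℂ} (hα : IsIrrCharacter P α) {i : Fin q} (hi : OnLine ℓ α i)
    (hone : ∀ j, OnLine ℓ α j → j = i) : degIdx K P α = a := by
  have e : inertia P α ⊓ U = U ⊓ Subgroup.centralizer (ℓ i : Set L) := by
    refine le_antisymm (fun x hx => Subgroup.mem_inf.mpr ⟨hx.2, (D.mem_inertia_iff h hα hx.2).mp hx.1 i hi⟩)
      fun x hx => Subgroup.mem_inf.mpr ⟨(D.mem_inertia_iff h hα hx.1).mpr fun j hj => hone j hj ▸ hx.2, hx.1⟩
  refine Nat.eq_of_mul_eq_mul_right (Nat.card_pos (α := ↥(inertia P α ⊓ U))) ?_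
  rw [h.degIdx_mul hα, e, D.card_centralizer_line h i]

theorem degIdx_full [P.Normal] {α : P → ℂ} (hα : IsIrrCharacter P α) (hall : ∀ i, OnLine ℓ α i) :
    degIdx K P α = uBar P U := by
  refine h.degIdx_eq_uBar hα fun x hx => ?_
  have hle : P ≤ Subgroup.centralizer ({x} : Set L) := D.le_subgroup_of_lines h fun i w hw =>
    Subgroup.mem_centralizer_singleton_iff.mpr
      (Subgroup.mem_centralizer_iff.mp ((D.mem_inertia_iff h hα hx.2).mp hx.1 i (hall i)) w hw)
  exact Subgroup.mem_centralizer_iff.mpr fun w hw => Subgroup.mem_centralizer_singleton_iff.mp (hle hw)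

theorem mem_withSupport [Fintype P] {S : (Fin q → Prop) → Prop} {α : P → ℂ} :
    α ∈ withSupport ℓ S ↔ IsIrrCharacter P α ∧ S fun i => OnLine ℓ α i := by
  classical
  simp only [withSupport, Finset.mem_filter, Finset.mem_image, Finset.mem_univ, true_and]
  refine ⟨fun ⟨⟨f, hf⟩, hs⟩ => ⟨hf ▸ isIrrCharacter_linear f, hs⟩, fun ⟨hi, hs⟩ => ⟨?_, hs⟩⟩
  obtain ⟨f, hf⟩ := exists_hom_of_degree_one (isCharacter_of_irr hi) (h.alpha_one hi)
  exact ⟨f, hf.symm⟩

theorem withSupport_stable [P.Normal] {S : (Fin q → Prop) → Prop} {α : P → ℂ} (hα : α ∈ withSupport ℓ S)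
    {k : L} (hk : k ∈ K) : conjNormFun P k α ∈ withSupport ℓ S := by
  letI := Fintype.ofFinite P
  rw [D.mem_withSupport h] at hα ⊢
  refine ⟨isIrr_conjNormFun P k hα.1, ?_⟩
  rw [funext fun i => propext (D.onLine_conj h hk i)]
  exact hα.2

open Classical in
theorem card_line_hom (i : Fin q) [Fintype (ℓ i →* ℂˣ)] : Fintype.card (ℓ i →* ℂˣ) = p := by
  have hc : ∀ x y : ℓ i, x * y = y * x := fun x y => Subtype.ext (h.comm_P x (D.le i x.2) y (D.le i y.2))
  have := sum_hom_abelian hc 1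
  simp at this
  rw [← D.card i, Nat.card_eq_fintype_card]
  exact_mod_cast this

/-- The restriction of a character of `P` to the lines is a bijection. -/
theorem exists_lineEquiv : ∃ Φ : (P →* ℂˣ) ≃ (∀ i, ℓ i →* ℂˣ),
    ∀ f i, OnLine ℓ (fun z : P => (f z : ℂ)) i ↔ Φ f i ≠ 1 := by
  classical
  obtain ⟨e, he⟩ := D.prod
  let r : (P →* ℂˣ) → (∀ i, ℓ i →* ℂˣ) := fun f i => (f.comp e.toMonoidHom).comp (MonoidHom.mulSingle (fun j => ℓ j) i)
  have hinj : Function.Injective r := fun f g hfg => by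
    have hP : P ≤ (f / g).ker.map P.subtype := D.le_subgroup_of_lines h fun i w hw => by
      refine ⟨⟨w, D.le i hw⟩, ?_, rfl⟩
      show f ⟨w, D.le i hw⟩ / g ⟨w, D.le i hw⟩ = 1
      have h1 := DFunLike.congr_fun (congrFun hfg i) ⟨w, hw⟩
      have h2 : e (Pi.mulSingle i ⟨w, hw⟩) = ⟨w, D.le i hw⟩ := Subtype.ext (he i _)
      simp only [r, MonoidHom.comp_apply, MonoidHom.mulSingle_apply, MulEquiv.coe_toMonoidHom, h2] at h1
      rw [h1, div_self']
    refine MonoidHom.ext fun z => ?_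
    obtain ⟨y, hy, hyz⟩ := hP z.2
    rw [P.subtype_injective hyz] at hy
    exact div_eq_one.mp hy
  have hsurj : Function.Surjective r := fun c => by
    refine ⟨(MonoidHom.noncommPiCoprod c fun _ _ _ x y => mul_comm _ _).comp e.symm.toMonoidHom, funext fun i => ?_⟩
    refine MonoidHom.ext fun z => ?_
    simp only [r, MonoidHom.comp_apply, MonoidHom.mulSingle_apply, MulEquiv.coe_toMonoidHom,
      MulEquiv.symm_apply_apply]
    exact MonoidHom.noncommPiCoprod_mulSingle (ϕ := c) i z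
  refine ⟨Equiv.ofBijective r ⟨hinj, hsurj⟩, fun f i => ?_⟩
  show _ ↔ r f i ≠ 1
  constructor
  · rintro ⟨z, hz, hne⟩ hr
    refine hne ?_
    have h1 := DFunLike.congr_fun hr ⟨(z : L), hz⟩
    have h2 : e (Pi.mulSingle i ⟨(z : L), hz⟩) = z := Subtype.ext (he i _)
    simp only [r, MonoidHom.comp_apply, MonoidHom.mulSingle_apply, MulEquiv.coe_toMonoidHom, h2,
      MonoidHom.one_apply] at h1
    show ((f z : ℂˣ) : ℂ) = 1
    rw [h1, Units.val_one]
  · intro hr
    by_contra hno
    simp only [OnLine, not_exists, not_and, not_not] at hno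
    refine hr (MonoidHom.ext fun z => ?_)
    have := hno ⟨z, D.le i z.2⟩ z.2
    have h2 : e (Pi.mulSingle i z) = ⟨z, D.le i z.2⟩ := Subtype.ext (he i z)
    simp only [r, MonoidHom.comp_apply, MonoidHom.mulSingle_apply, MulEquiv.coe_toMonoidHom, h2,
      MonoidHom.one_apply]
    exact Units.val_eq_one.mp this

theorem card_full_ge [Fintype P] : (p - 1) ^ q ≤ (withSupport (P := P) ℓ fun s => ∀ i, s i).card := by
  classical
  obtain ⟨Φ, hΦ⟩ := D.exists_lineEquiv h
  haveI : ∀ i, Fintype (ℓ i →* ℂˣ) := fun i => Fintype.ofFinite _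
  let g : (∀ i, {c : ℓ i →* ℂˣ // c ≠ 1}) → (P → ℂ) := fun c z => (Φ.symm (fun i => (c i).1) z : ℂ)
  have hg : Function.Injective g := fun c c' e => by
    have : Φ.symm (fun i => (c i).1) = Φ.symm (fun i => (c' i).1) :=
      MonoidHom.ext fun z => Units.ext (congrFun e z)
    exact funext fun i => Subtype.ext (congrFun (Φ.symm.injective this) i)
  calc (p - 1) ^ q = Fintype.card (∀ i, {c : ℓ i →* ℂˣ // c ≠ 1}) := by
        rw [Fintype.card_pi]
        simp [Fintype.card_subtype_compl, D.card_line_hom h]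
    _ = (Finset.univ.image g).card := (Finset.card_image_of_injective _ hg).symm
    _ ≤ _ := Finset.card_le_card fun α hα => by
        obtain ⟨c, -, rfl⟩ := Finset.mem_image.mp hα
        refine (D.mem_withSupport h).mpr ⟨isIrrCharacter_linear _, fun i => (hΦ _ i).mpr ?_⟩
        rw [Equiv.apply_symm_apply]
        exact (c i).2

theorem card_single_ge [Fintype P] : q * (p - 1) ≤ (withSupport (P := P) ℓ fun s => ∃! i, s i).card := by
  classical
  obtain ⟨Φ, hΦ⟩ := D.exists_lineEquiv h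
  haveI : ∀ i, Fintype (ℓ i →* ℂˣ) := fun i => Fintype.ofFinite _
  let g : (Σ i, {c : ℓ i →* ℂˣ // c ≠ 1}) → (P → ℂ) := fun c z => (Φ.symm (Pi.mulSingle c.1 c.2.1) z : ℂ)
  have hs : ∀ (c : Σ i, {c : ℓ i →* ℂˣ // c ≠ 1}) (j : Fin q),
      (Pi.mulSingle c.1 c.2.1 : ∀ i, ℓ i →* ℂˣ) j ≠ 1 ↔ j = c.1 := fun c j => by
    constructor
    · intro hj
      by_contra hne
      exact hj (Pi.mulSingle_eq_of_ne hne _)
    · rintro rfl
      rw [Pi.mulSingle_eq_same]
      exact c.2.2
  have hg : Function.Injective g := fun c c' e => by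
    have he : Φ.symm (Pi.mulSingle c.1 c.2.1) = Φ.symm (Pi.mulSingle c'.1 c'.2.1) :=
      MonoidHom.ext fun z => Units.ext (congrFun e z)
    have he' := Φ.symm.injective he
    obtain ⟨i, c, hc⟩ := c
    obtain ⟨i', c', hc'⟩ := c'
    have hi : i = i' := (hs ⟨i', c', hc'⟩ i).mp (by rw [← he']; exact (hs ⟨i, c, hc⟩ i).mpr rfl)
    subst hi
    have := congrFun he' i
    simp only [Pi.mulSingle_eq_same] at this
    subst this
    rfl
  calc q * (p - 1) = Fintype.card (Σ i, {c : ℓ i →* ℂˣ // c ≠ 1}) := by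
        rw [Fintype.card_sigma]
        simp [Fintype.card_subtype_compl, D.card_line_hom h]
    _ = (Finset.univ.image g).card := (Finset.card_image_of_injective _ hg).symm
    _ ≤ _ := Finset.card_le_card fun α hα => by
        obtain ⟨c, -, rfl⟩ := Finset.mem_image.mp hα
        refine (D.mem_withSupport h).mpr ⟨isIrrCharacter_linear _, c.1, ?_, fun j hj => ?_⟩
        · show OnLine ℓ _ c.1
          rw [hΦ, Equiv.apply_symm_apply]
          exact (hs c c.1).mpr rfl
        · have hj' := (hΦ _ j).mp hj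
          rw [Equiv.apply_symm_apply] at hj'
          exact (hs c j).mp hj'

/-- The inertia group of a one-line character is not normal in `L` unless all lines have the same centralizer. -/
theorem not_normal_single [P.Normal] {α : P → ℂ} (hα : IsIrrCharacter P α) {i : Fin q} (hi : OnLine ℓ α i)
    (hone : ∀ j, OnLine ℓ α j → j = i) (hau : a ≠ uBar P U) :
    ¬ W₁ ≤ Subgroup.normalizer ((inertia P α ⊓ U : Subgroup L) : Set L) := by
  intro hW
  refine hau ?_
  have e : inertia P α ⊓ U = U ⊓ Subgroup.centralizer (ℓ i : Set L) := by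
    refine le_antisymm (fun x hx => Subgroup.mem_inf.mpr ⟨hx.2, (D.mem_inertia_iff h hα hx.2).mp hx.1 i hi⟩)
      fun x hx => Subgroup.mem_inf.mpr ⟨(D.mem_inertia_iff h hα hx.1).mpr fun j hj => hone j hj ▸ hx.2, hx.1⟩
  rw [← D.degIdx_single h hα hi hone]
  refine h.degIdx_eq_uBar hα fun x hx => ?_
  rw [e] at hW hx
  have hle : P ≤ Subgroup.centralizer ({x} : Set L) := D.le_subgroup_of_lines h fun j y hy => by
    obtain ⟨w, hw, hj⟩ := D.trans i j
    rw [hj] at hy
    obtain ⟨y, hy, rfl⟩ := hy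
    have h1 : w⁻¹ * x * w ∈ U ⊓ Subgroup.centralizer (ℓ i : Set L) := by
      have := (Subgroup.mem_normalizer_iff.mp (hW (W₁.inv_mem hw)) x).mp hx
      simpa using this
    have h2 := Subgroup.mem_centralizer_iff.mp (Subgroup.mem_inf.mp h1).2 y hy
    refine Subgroup.mem_centralizer_singleton_iff.mpr ?_
    have h3 := congrArg (fun t => w * t * w⁻¹) h2
    simpa [mul_assoc] using h3
  exact Subgroup.mem_centralizer_iff.mpr fun y hy => Subgroup.mem_centralizer_singleton_iff.mp (hle hy)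

end IsLineSystem

end CfsgLib.OddOrder.S9b
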