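import Cfsg.Agent.Lib.OddOrder.S9b.Counting
import Cfsg.Agent.Lib.CharTheory.Induced
import Cfsg.Agent.Lib.CharTheory.ThreeDegrees

/-!
Peterfalvi (9.10), (13.3): the members of degree `q u` are induced from linear characters of `P C_U(P)`, and
without an irreducible one the action is irreducible, faithful and as large as possible.
-/

set_option autoImplicit false
set_option linter.unusedSectionVars false
set_option linter.style.haveILetI false

namespace CfsgLib.OddOrder.S9b

open Cfsg CfsgLib.CharTheory CfsgLib.OddOrder.Found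
open scoped ComplexConjugate

universe u

variable {L : Type u} [Group L] [Fintype L] {K P U W₁ W₂ : Subgroup L} {p q : ℕ}

namespace CoreHyp

variable (h : CoreHyp K P U W₁ W₂ p q)
include h

theorem card_kernelSup : Nat.card ↥(P ⊔ (U ⊓ Subgroup.centralizer (P : Set L))) =
    Nat.card P * Nat.card ↥(U ⊓ Subgroup.centralizer (P : Set L)) := by
  classical
  haveI := h.P_normal
  rw [← Nat.card_prod]
  refine (Nat.card_eq_of_bijective (fun y : P × ↥(U ⊓ Subgroup.centralizer (P : Set L)) =>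
    (⟨y.1 * y.2, mul_mem (Subgroup.mem_sup_left y.1.2) (Subgroup.mem_sup_right y.2.2)⟩ :
      ↥(P ⊔ (U ⊓ Subgroup.centralizer (P : Set L))))) ⟨fun a b e => ?_, fun k => ?_⟩).symm
  · obtain ⟨e1, e2⟩ := h.factor_unique a.1.2 b.1.2 a.2.2.1 b.2.2.1 (congrArg Subtype.val e)
    exact Prod.ext (Subtype.ext e1) (Subtype.ext e2)
  · have hk : (k : L) ∈ (↑(P ⊔ (U ⊓ Subgroup.centralizer (P : Set L))) : Set L) := k.2
    rw [Subgroup.normal_mul] at hk
    obtain ⟨z, hz, x, hx, e⟩ := hk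
    exact ⟨(⟨z, hz⟩, ⟨x, hx⟩), Subtype.ext e⟩

theorem kernelSup_comm (a b : ↥(P ⊔ (U ⊓ Subgroup.centralizer (P : Set L)))) : a * b = b * a := by
  haveI := h.P_normal
  have ha : (a : L) ∈ (↑(P ⊔ (U ⊓ Subgroup.centralizer (P : Set L))) : Set L) := a.2
  have hb : (b : L) ∈ (↑(P ⊔ (U ⊓ Subgroup.centralizer (P : Set L))) : Set L) := b.2
  rw [Subgroup.normal_mul] at ha hb
  obtain ⟨z, hz, x, ⟨hxU, hxC⟩, ea⟩ := ha
  obtain ⟨z', hz', x', ⟨hxU', hxC'⟩, eb⟩ := hb
  have c1 : Commute z z' := h.comm_P z hz z' hz'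
  have c2 : Commute x z' := ((Subgroup.mem_centralizer_iff.mp hxC) z' hz').symm
  have c3 : Commute z x' := (Subgroup.mem_centralizer_iff.mp hxC') z hz
  have c4 : Commute x x' := h.comm_U x hxU x' hxU'
  refine Subtype.ext ?_
  rw [Subgroup.coe_mul, Subgroup.coe_mul, ← ea, ← eb]
  exact ((c1.mul_right c3).mul_left (c2.mul_right c4)).eq

/-- **(13.3)** A member of degree `q u` is induced from a linear character of `P C_U(P)` nontrivial on `P`. -/
theorem exists_linear_ind {θ : K → ℂ} (hθ : IsIrrCharacter K θ) (hk : ¬ ∀ z : K, (z : L) ∈ P → θ z = θ 1)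
    (h1 : θ 1 = (uBar P U : ℂ)) :
    ∃ ψ : ↥(P ⊔ (U ⊓ Subgroup.centralizer (P : Set L))) →* ℂˣ,
      (∃ z : ↥(P ⊔ (U ⊓ Subgroup.centralizer (P : Set L))), (z : L) ∈ P ∧ ψ z ≠ 1) ∧
        indFun K θ = indFun (P ⊔ (U ⊓ Subgroup.centralizer (P : Set L))) fun x => (ψ x : ℂ) := by
  classical
  haveI := h.P_normal
  haveI := Fintype.ofFinite K
  letI := Fintype.ofFinite P
  set H := P ⊔ (U ⊓ Subgroup.centralizer (P : Set L)) with hHdef
  have hHK : H ≤ K := sup_le h.P_le (inf_le_left.trans h.U_le)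
  set H' := H.subgroupOf K with hH'
  haveI := Fintype.ofFinite H'
  have hcomm : ∀ a b : H', a * b = b * a := fun a b => Subtype.ext (Subtype.ext
    (show ((a : K) : L) * ((b : K) : L) = ((b : K) : L) * ((a : K) : L) from congrArg Subtype.val (h.kernelSup_comm ⟨_, Subgroup.mem_subgroupOf.mp a.2⟩ ⟨_, Subgroup.mem_subgroupOf.mp b.2⟩)))
  have hidx : H'.index = uBar P U := by
    refine Nat.eq_of_mul_eq_mul_left (Nat.card_pos (α := H')) ?_
    rw [Subgroup.card_mul_index, h.card_K, Nat.card_congr (Subgroup.subgroupOfEquivOfLe hHK).toEquiv,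
      h.card_kernelSup, ← h.uBar_mul]
    ring
  obtain ⟨φ, hφ, hne⟩ := exists_constituent (isCharacter_comp (isCharacter_of_irr hθ) H'.subtype)
    (fun e => irr_ne_zero hθ (congrFun e 1))
  obtain ⟨f, rfl⟩ := exists_hom_of_degree_one (isCharacter_of_irr hφ) (degree_one_of_commutative hcomm hφ)
  have hind := isCharacter_indFun H' (isCharacter_of_irr hφ)
  have hcon : classInner (indFun H' fun x => (f x : ℂ)) θ ≠ 0 := by
    rw [frobenius_reciprocity H' _ (isClassFunction_irr hθ), ← classInner_comm]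
    exact fun e => hne (by simpa using e)
  have heq : (indFun H' fun x => (f x : ℂ)) = θ := by
    refine sub_eq_zero.mp (char_eq_zero_of_deg_zero (isCharacter_sub_irr hind hθ hcon) ?_)
    rw [Pi.sub_apply, h1, indFun_apply_one, hidx, map_one, Units.val_one, mul_one, sub_self]
  let e : ↥H →* H' :=
    { toFun := fun x => ⟨⟨x, hHK x.2⟩, Subgroup.mem_subgroupOf.mpr x.2⟩
      map_one' := rfl
      map_mul' := fun _ _ => rfl }
  refine ⟨f.comp e, ?_, ?_⟩
  · by_contra hno
    push Not at hno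
    refine hk fun z hz => ?_
    have hzH : z ∈ H' := Subgroup.mem_subgroupOf.mpr (Subgroup.mem_sup_left hz)
    have hfix : ∀ g : K, f ⟨g * z * g⁻¹, Subgroup.mem_subgroupOf.mpr
        (Subgroup.mem_sup_left (h.P_normal.conj_mem _ hz _))⟩ = 1 :=
      fun g => hno ⟨(g * z * g⁻¹ : K), Subgroup.mem_sup_left (h.P_normal.conj_mem _ hz _)⟩
        (h.P_normal.conj_mem _ hz _)
    have key : ∀ y : K, extendByZero H' (fun x => (f x : ℂ)) (y⁻¹ * z * y) = 1 := fun y => by
      have hm : y⁻¹ * z * y ∈ H' := Subgroup.mem_subgroupOf.mpr (Subgroup.mem_sup_left (by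
        simpa using h.P_normal.conj_mem _ hz ((y : L)⁻¹)))
      rw [extendByZero_of_mem _ _ hm, show (⟨y⁻¹ * z * y, hm⟩ : H') =
        ⟨y⁻¹ * z * y⁻¹⁻¹, Subgroup.mem_subgroupOf.mpr (Subgroup.mem_sup_left (h.P_normal.conj_mem _ hz _))⟩ from
          Subtype.ext (by simp), hfix y⁻¹, Units.val_one]
    rw [← heq]
    simp only [indFun, key]
    congr 1
    refine Finset.sum_congr rfl fun y _ => ?_
    rw [extendByZero_of_mem _ _ (by simp : y⁻¹ * 1 * y ∈ H'),
      show (⟨y⁻¹ * 1 * y, (by simp : y⁻¹ * 1 * y ∈ H')⟩ : H') = 1 from Subtype.ext (by simp), map_one, Units.val_one]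
  · rw [← heq, ← indFun_trans H K hHK fun x => ((f.comp e) x : ℂ)]
    rfl

/-- **(9.10)** Without irreducible members of degree `q u`. -/
theorem nine_ten
    (hcase : (∀ X : Subgroup L, X ≤ P → U ≤ Subgroup.normalizer (X : Set L) → X = ⊥ ∨ X = P) ∨
      ∃ (a : ℕ) (ℓ : Fin q → Subgroup L), IsLineSystem P U W₁ p q ℓ a)
    (hu : uBar P U * (p - 1) ≤ p ^ q - 1)
    (hno : ∀ φ ∈ coreSet K P, IsIrrCharacter L φ → φ 1 ≠ ((q * uBar P U : ℕ) : ℂ)) :
    (∀ X : Subgroup L, X ≤ P → U ≤ Subgroup.normalizer (X : Set L) → X = ⊥ ∨ X = P) ∧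
      U ⊓ Subgroup.centralizer (P : Set L) = ⊥ ∧ uBar P U * (p - 1) = p ^ q - 1 := by
  classical
  haveI := h.P_normal
  rcases hcase with hgal | ⟨a, ℓ, D⟩
  swap
  · exfalso
    have h1 := D.card_top h
    have h2 : 0 < (p - 1) * (2 ^ (q - 1) - 1) := Nat.mul_pos (by have := h.hp.two_le; omega) (by
      have : 2 ^ 1 ≤ 2 ^ (q - 1) := Nat.pow_le_pow_right (by norm_num) (by have := h.hq.two_le; omega)
      omega)
    obtain ⟨φ, hφ⟩ : h.topIrr.Nonempty := Finset.card_pos.mp (by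
      rcases Nat.eq_zero_or_pos h.topIrr.card with e | e
      · rw [e, mul_zero] at h1; omega
      · exact e)
    obtain ⟨hm, hd, hi⟩ := h.mem_topIrr.mp hφ
    exact hno φ hm hi hd
  refine ⟨hgal, ?_⟩
  letI := Fintype.ofFinite P
  haveI := Fintype.ofFinite (P →* ℂˣ)
  haveI := Fintype.ofFinite (W₂ →* ℂˣ)
  set S : Finset (P → ℂ) := ((Finset.univ : Finset (P →* ℂˣ)).erase 1).image fun f => fun z : P => (f z : ℂ) with hS
  have hSmem : ∀ α, α ∈ S ↔ IsIrrCharacter P α ∧ α ≠ fun _ => 1 := by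
    intro α
    constructor
    · intro hα
      obtain ⟨f, hf, rfl⟩ := Finset.mem_image.mp hα
      exact ⟨isIrrCharacter_linear f, fun e => Finset.ne_of_mem_erase hf
        (MonoidHom.ext fun z => Units.ext (by simpa using congrFun e z))⟩
    · rintro ⟨hα, hne⟩
      obtain ⟨f, rfl⟩ := exists_hom_of_degree_one (isCharacter_of_irr hα) (h.alpha_one hα)
      exact Finset.mem_image.mpr ⟨f, Finset.mem_erase.mpr ⟨fun e => hne (by simp [e]), Finset.mem_univ _⟩, rfl⟩
  have hScard : S.card = p ^ q - 1 := by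
    rw [hS, Finset.card_image_of_injective _ fun f g e => MonoidHom.ext fun z => Units.ext (congrFun e z),
      Finset.card_erase_of_mem (Finset.mem_univ _), Finset.card_univ, ← h.card_P]
    have := sum_hom_abelian h.comm_P' 1
    simp at this
    rw [Nat.card_eq_fintype_card]
    congr 1
  obtain ⟨Θ, hΘ⟩ := h.exists_overSet S
  have hdeg : ∀ α ∈ S, degIdx K P α = uBar P U := fun α hα =>
    h.degIdx_eq_uBar ((hSmem α).mp hα).1 (h.inertia_inf_le ((hSmem α).mp hα).1 ((hSmem α).mp hα).2 (Or.inr hgal))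
  have hcount := h.card_over_mul S Θ (fun α hα => ((hSmem α).mp hα).1)
    (fun α hα k hk => (hSmem _).mpr (by
      obtain ⟨hi, hne⟩ := (hSmem α).mp hα
      refine ⟨isIrr_conjNormFun P k hi, fun e => hne ?_⟩
      rw [← conjNormFun_inv P k α, e]
      rfl)) hdeg hΘ
  have hle : Θ.card ≤ p - 1 := by
    have hsub : Θ ⊆ ((Finset.univ : Finset (W₂ →* ℂˣ)).erase 1).image h.prime.colChar := fun θ hθ => by
      obtain ⟨hθi, α, hα, ho⟩ := (hΘ θ).mp hθ
      have hkk := h.not_kernel_of_over hθi ((hSmem α).mp hα).1 ((hSmem α).mp hα).2 ho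
      by_cases hb : ∀ b, θ ≠ h.prime.colChar b
      · exfalso
        refine hno _ ⟨θ, hθi, hkk, rfl⟩ (h.prime.isIrr_indFun_of_ne hθi hb) ?_
        rw [indFun_apply_one, h.degree_of_over hθi ((hSmem α).mp hα).1 ho, hdeg α hα, h.prime.index_eq,
          h.card_W₁, Nat.cast_mul]
      · push Not at hb
        obtain ⟨b, rfl⟩ := hb
        refine Finset.mem_image.mpr ⟨b, Finset.mem_erase.mpr ⟨fun e => hkk fun z _ => ?_, Finset.mem_univ _⟩, rfl⟩
        rw [e, h.prime.colChar_one]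
    refine (Finset.card_le_card hsub).trans (Finset.card_image_le.trans (le_of_eq ?_))
    rw [Finset.card_erase_of_mem (Finset.mem_univ _), Finset.card_univ]
    have := sum_hom_abelian h.prime.comm₂ 1
    simp at this
    rw [← h.card_W₂, Nat.card_eq_fintype_card]
    congr 1
  set c := Nat.card ↥(U ⊓ Subgroup.centralizer (P : Set L)) with hc
  have hu0 := h.uBar_pos
  have hmul : uBar P U * c = Nat.card U := h.uBar_mul
  have key : Θ.card * uBar P U = (p ^ q - 1) * c := by
    refine Nat.eq_of_mul_eq_mul_right hu0 ?_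
    rw [hScard, ← hmul] at hcount
    linarith
  have hbound : (p ^ q - 1) * c ≤ (p ^ q - 1) * 1 := by
    rw [← key, mul_one]
    exact (Nat.mul_le_mul_right _ hle).trans (by rw [mul_comm]; exact hu)
  have hpos : 0 < p ^ q - 1 := by
    have : 2 ^ 1 ≤ p ^ q := (Nat.pow_le_pow_left h.hp.two_le 1).trans
      (Nat.pow_le_pow_right h.hp.pos h.hq.one_le)
    omega
  have hc1 : c = 1 := le_antisymm (Nat.le_of_mul_le_mul_left hbound hpos) Nat.card_pos
  refine ⟨Subgroup.card_eq_one.mp hc1, le_antisymm hu ?_⟩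
  rw [hc1, mul_one] at key
  rw [← key, mul_comm (uBar P U)]
  exact Nat.mul_le_mul_right _ hle

end CoreHyp

end CfsgLib.OddOrder.S9b
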