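import Cfsg.Agent.Lib.OddOrder.S9b.Core
import Cfsg.Agent.Lib.OddOrder.Found.Subcoherent
import Cfsg.Agent.Lib.CharTheory.EqualDegree

/-!
Peterfalvi (9.11), final form: in a prime Dade set-up the characters induced from `K` and nontrivial on `P` are
coherent, the reducible ones go to one signed family of columns, and the others are orthogonal to the family.
-/

set_option autoImplicit false
set_option linter.unusedSectionVars false
set_option linter.style.haveILetI false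

namespace CfsgLib.OddOrder.S9b

open Cfsg CfsgLib.CharTheory CfsgLib.Dade CfsgLib.OddOrder.Found
open scoped ComplexConjugate

universe u v

theorem li_sum {L : Type u} [Group L] [Fintype L] {G : Type v} [Group G] [Fintype G] {S : Set (L → ℂ)}
    {σ : (L → ℂ) → (G → ℂ)} (hσ : IsLinearIsometryOn (zspan S) σ) {ι : Type*} (s : Finset ι) {f : ι → L → ℂ}
    (hf : ∀ i ∈ s, f i ∈ zspan S) : σ (∑ i ∈ s, f i) = ∑ i ∈ s, σ (f i) := by
  classical
  induction s using Finset.induction_on with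
  | empty =>
    simpa using hσ.2.1 0 (Submodule.zero_mem _) 0
  | @insert i s hi ih =>
    have hf' : ∀ j ∈ s, f j ∈ zspan S := fun j hj => hf j (Finset.mem_insert_of_mem hj)
    rw [Finset.sum_insert hi, Finset.sum_insert hi,
      hσ.1 _ (hf i (Finset.mem_insert_self i s)) _ (Submodule.sum_mem _ hf'), ih hf']

variable {G : Type u} [Group G] [Fintype G] {L : Subgroup G} [Fintype L] {K P U : Subgroup L}
  {W₁ W₂ : Subgroup G} {A₀ : Set G} {R : G → Subgroup G} {p q : ℕ} {χ : WLin W₁ W₂ → (G → ℂ)}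

namespace CoreHyp

variable (h : CoreHyp K P U (W₁.subgroupOf L) (W₂.subgroupOf L) p q) (hd : IsPrimeDade L K P W₁ W₂ A₀ R)
include h hd

theorem exists_b : ∃ b : W₂.subgroupOf L →* ℂˣ, b ≠ 1 := by
  haveI := Fintype.ofFinite (W₂.subgroupOf L →* ℂˣ)
  haveI := Fintype.ofFinite (W₂.subgroupOf L)
  have h1 := sum_hom_abelian h.prime.comm₂ 1
  simp at h1
  have h3 := h.prime.three_le₂
  refine Fintype.exists_ne_of_one_lt_card ?_ 1
  have : Fintype.card (W₂.subgroupOf L →* ℂˣ) = Nat.card (W₂.subgroupOf L) := by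
    rw [Nat.card_eq_fintype_card]; exact_mod_cast h1
  omega

theorem sgn_const [Fintype (W₁.subgroupOf L →* ℂˣ)] {b c : W₂.subgroupOf L →* ℂˣ} (hb : b ≠ 1) (hc : c ≠ 1) :
    hd.sgn b = hd.sgn c := by
  haveI := h.P_normal
  exact hd.ti.delta_eq_of_degree ((h.colChar_degree hb).trans (h.colChar_degree hc).symm)

theorem coreSet_system [Fintype (W₁.subgroupOf L →* ℂˣ)] (hχ : IsCyclicTIFamily W₁ W₂ χ) :
    ∃ RS : (L → ℂ) → Finset (G → ℂ), IsCoherenceSystem (coreSet K P) (dadeIsometry A₀ L R) RS ∧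
      (∀ b, b ≠ 1 → RS (hd.ti.muSum b) = hd.colSystem χ b) ∧
      (∀ φ ∈ coreSet K P, IsIrrCharacter L φ → ∀ α ∈ RS φ, ∀ ω, classInner α (χ ω) = 0) :=
  hd.exists_system h.odd hχ (S := coreSet K P) (fun _ hφ => hφ)
    (let ⟨b, hb⟩ := h.exists_b hd; ⟨_, h.muSum_mem hb⟩) fun _ hφ => (h.coreSet_conj hφ).1

/-- Functions supported on the elements of `K` centralizing some element of `P#` are in reach of the Dade map. -/
theorem dade_ext {φ : L → ℂ} (hφ : IsGeneralizedCharacter L φ) (h1 : φ 1 = 0)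
    (hsupp : ∀ g, ¬(g ∈ K ∧ ∃ z ∈ P, z ≠ 1 ∧ z * g = g * z) → φ g = 0) :
    IsGeneralizedCharacter G (dadeIsometry A₀ L R φ) ∧
      classInner (dadeIsometry A₀ L R φ) (dadeIsometry A₀ L R φ) = classInner φ φ ∧
      ∀ α ∈ zspanOn (coreSet K P) {1}ᶜ,
        classInner (dadeIsometry A₀ L R φ) (dadeIsometry A₀ L R α) = classInner φ α := by
  have hA : ∀ x : L, (x : G) ∉ A₀ → φ x = 0 := fun x hx => by
    by_cases hx1 : x = 1
    · rw [hx1, h1]
    exact hsupp x fun ⟨hk, z, hz, hz1, e⟩ => hx (hd.centralA x hk hx1 z hz hz1 e.symm)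
  have hcl := (isGenChar_iff_coeff_int.mp hφ).1
  refine ⟨isGenChar_dade hd.dade hφ hA, classInner_dade_dade hd.dade hcl hA hcl, fun α hα => ?_⟩
  exact classInner_dade_dade hd.dade hcl hA
    (isGenChar_iff_coeff_int.mp (zspan_genChar (fun ψ hψ => isGenChar_of_char (h.coreSet_isCharacter hψ)) hα.1)).1

/-- **(9.11)**: coherence. -/
theorem coherent_dade (hχ : IsCyclicTIFamily W₁ W₂ χ)
    (hcase : (∀ X : Subgroup L, X ≤ P → U ≤ Subgroup.normalizer (X : Set L) → X = ⊥ ∨ X = P) ∨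
      ∃ (a : ℕ) (ℓ : Fin q → Subgroup L), IsLineSystem P U (W₁.subgroupOf L) p q ℓ a) :
    IsCoherent (coreSet K P) {1}ᶜ (dadeIsometry A₀ L R) := by
  classical
  haveI := h.P_normal
  haveI := Fintype.ofFinite (W₁.subgroupOf L →* ℂˣ)
  obtain ⟨RS, hsys, -, -⟩ := h.coreSet_system hd hχ
  rcases hcase with hgal | ⟨a, ℓ, D⟩
  · exact h.coherent_of_irreducible_action hsys hgal
  · exact D.coherent h hsys fun φ hφ h1 hs => h.dade_ext hd hφ h1 hs

/-- Without irreducible members the columns themselves give the extension. -/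
theorem exists_extension_of_reducible [Fintype (W₁.subgroupOf L →* ℂˣ)] (hχ : IsCyclicTIFamily W₁ W₂ χ)
    (hred : ∀ φ ∈ coreSet K P, ¬ IsIrrCharacter L φ) {b₀ : W₂.subgroupOf L →* ℂˣ} (hb₀ : b₀ ≠ 1) :
    ∃ τ₁ : (L → ℂ) → (G → ℂ), IsLinearIsometryOn (zspan (coreSet K P)) τ₁ ∧
      (∀ α ∈ zspanOn (coreSet K P) {1}ᶜ, τ₁ α = dadeIsometry A₀ L R α) ∧
      ∀ b, b ≠ 1 → τ₁ (hd.ti.muSum b) = hd.sgn b₀ • ∑ a : W₁.subgroupOf L →* ℂˣ, χ (hd.idx a b) := by
  classical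
  haveI := h.P_normal
  haveI := Fintype.ofFinite (W₂.subgroupOf L →* ℂˣ)
  let T : Finset (L → ℂ) :=
    ((Finset.univ : Finset ((W₁.subgroupOf L →* ℂˣ) × (W₂.subgroupOf L →* ℂˣ))).filter fun x => x.2 ≠ 1).image
      fun x => hd.muAt x.1 x.2
  let F : (L → ℂ) → (G → ℂ) := fun φ =>
    if e : ∃ x : (W₁.subgroupOf L →* ℂˣ) × (W₂.subgroupOf L →* ℂˣ), hd.muAt x.1 x.2 = φ then
      hd.sgn b₀ • χ (hd.idx e.choose.1 e.choose.2) else 0
  have hF : ∀ a b, F (hd.muAt a b) = hd.sgn b₀ • χ (hd.idx a b) := fun a b => by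
    have e : ∃ x : (W₁.subgroupOf L →* ℂˣ) × (W₂.subgroupOf L →* ℂˣ), hd.muAt x.1 x.2 = hd.muAt a b := ⟨(a, b), rfl⟩
    simp only [F, dif_pos e]
    obtain ⟨e1, e2⟩ := hd.muAt_eq_iff.mp e.choose_spec
    rw [e1, e2]
  have hTirr : ∀ φ ∈ T, IsIrrCharacter L φ := fun φ hφ => by
    obtain ⟨x, -, rfl⟩ := Finset.mem_image.mp hφ
    exact hd.isIrr_muAt _ _
  have hgen : ∀ φ ∈ T, IsGeneralizedCharacter G (F φ) := fun φ hφ => by
    obtain ⟨x, -, rfl⟩ := Finset.mem_image.mp hφ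
    rw [hF]
    rcases hd.ti.delta_eq_or (hd.ti.col b₀) with e | e <;> rw [IsPrimeDade.sgn, e]
    · rw [one_smul]; exact cycFamily_signed hχ _
    · rw [neg_one_smul]; exact isGenChar_neg (cycFamily_signed hχ _)
  obtain ⟨σ, hσ, hσv⟩ := ortho_extension T hTirr F hgen fun φ hφ ψ hψ => by
    obtain ⟨x, -, rfl⟩ := Finset.mem_image.mp hφ
    obtain ⟨y, -, rfl⟩ := Finset.mem_image.mp hψ
    rw [hF, hF, classInner_smul_left, classInner_smul_right, hχ.orthonormal,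
      classInner_irr (hd.isIrr_muAt _ _) (hd.isIrr_muAt _ _)]
    simp only [hd.idx_eq_iff, hd.muAt_eq_iff]
    obtain ⟨δ, hδ, hs⟩ := hd.sgn_int b₀
    rw [hs, map_intCast, ← mul_assoc, ← Int.cast_mul, hδ, Int.cast_one, one_mul]
  have hmemT : ∀ a {b}, b ≠ 1 → hd.muAt a b ∈ zspan (↑T : Set (L → ℂ)) := fun a b hb =>
    Submodule.subset_span (Finset.mem_image.mpr ⟨(a, b), Finset.mem_filter.mpr ⟨Finset.mem_univ _, hb⟩, rfl⟩)
  have hmu : ∀ φ ∈ coreSet K P, ∃ b, b ≠ 1 ∧ φ = hd.ti.muSum b := fun φ hφ => by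
    rcases h.coreSet_cases hφ with hb | ⟨hi, -⟩
    · exact hb
    · exact absurd hi (hred φ hφ)
  have hsub : zspan (coreSet K P) ⊆ zspan (↑T : Set (L → ℂ)) := by
    refine Submodule.span_le.mpr fun φ hφ => ?_
    obtain ⟨b, hb, rfl⟩ := hmu φ hφ
    exact Submodule.sum_mem _ fun a _ => hmemT a hb
  have hval : ∀ b, b ≠ 1 → σ (hd.ti.muSum b) = hd.sgn b₀ • ∑ a : W₁.subgroupOf L →* ℂˣ, χ (hd.idx a b) := by
    intro b hb
    rw [show hd.ti.muSum b = ∑ a : W₁.subgroupOf L →* ℂˣ, hd.muAt a b from rfl,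
      li_sum hσ Finset.univ fun a _ => hmemT a hb, Finset.smul_sum]
    refine Finset.sum_congr rfl fun a _ => ?_
    exact (hσv _ (Finset.mem_image.mpr ⟨(a, b), Finset.mem_filter.mpr ⟨Finset.mem_univ _, hb⟩, rfl⟩)).trans (hF a b)
  refine ⟨σ, isometryOn_mono hsub hσ, fun α hα => ?_, hval⟩
  set d : ℂ := ((q * uBar P U : ℕ) : ℂ) with hddef
  have hd0 : d ≠ 0 := Nat.cast_ne_zero.mpr (Nat.mul_pos h.hq.pos h.uBar_pos).ne'
  have key : ∀ β ∈ zspan (coreSet K P),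
      dadeIsometry A₀ L R (β - (β 1 / d) • hd.ti.muSum b₀) = σ β - (β 1 / d) • σ (hd.ti.muSum b₀) := by
    intro β hβ
    induction hβ using Submodule.span_induction with
    | mem y hy =>
      obtain ⟨b, hb, rfl⟩ := hmu y hy
      rw [show hd.ti.muSum b 1 = d from h.muSum_apply_one hb, div_self hd0, one_smul, one_smul,
        hd.dade_muSum_sub hχ hb hb₀ ((h.colChar_degree hb).trans (h.colChar_degree hb₀).symm), hval b hb,
        hval b₀ hb₀, h.sgn_const hd hb hb₀, Finset.sum_sub_distrib, smul_sub]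
    | zero =>
      have : σ 0 = 0 := by simpa using hσ.2.1 0 (Submodule.zero_mem _) 0
      simp [this, dade_smul]
      simpa using dade_smul (A := A₀) (L := L) (H := R) 0 (0 : L → ℂ)
    | add a b ha hb iha ihb =>
      rw [Pi.add_apply, add_div, add_smul, add_smul, add_sub_add_comm, dade_add, iha, ihb,
        hσ.1 _ (hsub ha) _ (hsub hb), add_sub_add_comm]
    | smul k a ha iha =>
      rw [show (k • a) 1 / d = (k : ℂ) * (a 1 / d) by rw [Pi.smul_apply, zsmul_eq_mul, mul_div_assoc], mul_smul,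
        mul_smul, Int.cast_smul_eq_zsmul, Int.cast_smul_eq_zsmul, ← smul_sub, dade_zsmul, iha,
        hσ.2.1 _ (hsub ha) k, smul_sub]
  have := key α hα.1
  rw [hα.2 1 (fun e => e rfl), zero_div, zero_smul, zero_smul, sub_zero, sub_zero] at this
  exact this.symm

/-- **(9.11)** with the images of the reducible members. -/
theorem nine_eleven [Fintype (W₁.subgroupOf L →* ℂˣ)] (hχ : IsCyclicTIFamily W₁ W₂ χ)
    (hcase : (∀ X : Subgroup L, X ≤ P → U ≤ Subgroup.normalizer (X : Set L) → X = ⊥ ∨ X = P) ∨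
      ∃ (a : ℕ) (ℓ : Fin q → Subgroup L), IsLineSystem P U (W₁.subgroupOf L) p q ℓ a) :
    ∃ (τ₁ : (L → ℂ) → (G → ℂ)) (ε : ℤ) (flip : Bool), (ε = 1 ∨ ε = -1) ∧
      IsLinearIsometryOn (zspan (coreSet K P)) τ₁ ∧
      (∀ α ∈ zspanOn (coreSet K P) {1}ᶜ, τ₁ α = dadeIsometry A₀ L R α) ∧
      (∀ b, b ≠ 1 → τ₁ (hd.ti.muSum b) =
        (ε : ℂ) • ∑ a : W₁.subgroupOf L →* ℂˣ, χ (hd.idx a (if flip then b⁻¹ else b))) ∧
      ∀ φ ∈ coreSet K P, IsIrrCharacter L φ → ∀ ω, classInner (τ₁ φ) (χ ω) = 0 := by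
  classical
  haveI := h.P_normal
  obtain ⟨b₀, hb₀⟩ := h.exists_b hd
  obtain ⟨δ, hδ, hsgn⟩ := hd.sgn_int b₀
  have hδ' : δ = 1 ∨ δ = -1 := Int.eq_one_or_neg_one_of_mul_eq_one hδ
  by_cases hirr : ∃ ξ ∈ coreSet K P, IsIrrCharacter L ξ
  swap
  · push Not at hirr
    obtain ⟨τ₁, hiso, hag, hval⟩ := h.exists_extension_of_reducible hd hχ hirr hb₀
    refine ⟨τ₁, δ, false, hδ', hiso, hag, fun b hb => ?_, fun φ hφ hi => absurd hi (hirr φ hφ)⟩
    rw [hval b hb, hsgn]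
    rfl
  obtain ⟨ξ, hξ, hξi⟩ := hirr
  obtain ⟨RS, hsys, hcol, horth⟩ := h.coreSet_system hd hχ
  obtain ⟨-, τ₁, hiso, hag⟩ := h.coherent_dade hd hχ hcase
  have hne : ∀ c, ξ ≠ hd.ti.muSum c := fun c e => by
    have h1 := classInner_irr_self hξi
    rw [e, hd.ti.classInner_muSum, if_pos rfl, Nat.cast_eq_one] at h1
    have := hd.ti.three_le₁
    omega
  have hopt : ∀ b, b ≠ 1 →
      τ₁ (hd.ti.muSum b) = hd.sgn b₀ • ∑ a : W₁.subgroupOf L →* ℂˣ, χ (hd.idx a b) ∨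
      τ₁ (hd.ti.muSum b) = -(hd.sgn b₀ • ∑ a : W₁.subgroupOf L →* ℂˣ, χ (hd.idx a b⁻¹)) := fun b hb => by
    rw [← h.sgn_const hd hb hb₀]
    exact hd.coherent_muSum hχ (fun _ hφ => hφ) hsys hcol horth subset_rfl (fun _ hφ => (h.coreSet_conj hφ).1)
      hiso hag hb (h.muSum_mem hb) ⟨ξ, hξ, hne b, hne b⁻¹⟩
  have hpair : ∀ (c : W₂.subgroupOf L →* ℂˣ) (e : W₂.subgroupOf L →* ℂˣ),
      classInner (∑ a : W₁.subgroupOf L →* ℂˣ, χ (hd.idx a e)) (χ (hd.idx 1 c)) = if e = c then 1 else 0 := by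
    intro c e
    rw [classInner_sum_left]
    simp only [hχ.orthonormal, hd.idx_eq_iff]
    by_cases hec : e = c <;> simp [hec]
  have hmix : ∀ b c, b ≠ 1 → c ≠ 1 →
      τ₁ (hd.ti.muSum b) = hd.sgn b₀ • ∑ a : W₁.subgroupOf L →* ℂˣ, χ (hd.idx a b) →
      τ₁ (hd.ti.muSum c) = hd.sgn b₀ • ∑ a : W₁.subgroupOf L →* ℂˣ, χ (hd.idx a c) := by
    intro b c hb hc eb
    rcases hopt c hc with e | e
    · exact e
    exfalso
    have hmemb : hd.ti.muSum b ∈ zspan (coreSet K P) := Submodule.subset_span (h.muSum_mem hb)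
    have hmemc : hd.ti.muSum c ∈ zspan (coreSet K P) := Submodule.subset_span (h.muSum_mem hc)
    have hzero : hd.ti.muSum b - hd.ti.muSum c ∈ zspanOn (coreSet K P) {1}ᶜ := ⟨Submodule.sub_mem _ hmemb hmemc,
      fun x hx => by
        rw [not_not.mp hx, Pi.sub_apply, h.muSum_apply_one hb, h.muSum_apply_one hc, sub_self]⟩
    have e0 := hag _ hzero
    rw [isometryOn_sub hiso hmemb hmemc, eb, e,
      hd.dade_muSum_sub hχ hb hc ((h.colChar_degree hb).trans (h.colChar_degree hc).symm), h.sgn_const hd hb hb₀,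
      Finset.sum_sub_distrib, smul_sub, sub_neg_eq_add] at e0
    have e1 := congrArg (fun f => classInner f (χ (hd.idx 1 c))) e0
    simp only [classInner_add_left, classInner_sub_left, classInner_smul_left, hpair, if_true,
      hd.ti.inv_ne_self₂ hc, if_false, mul_zero, add_zero, mul_one] at e1
    exact hd.ti.delta_ne_zero _ (show hd.sgn b₀ = 0 by linear_combination e1)
  have hirr' : ∀ φ ∈ coreSet K P, IsIrrCharacter L φ → ∀ ω, classInner (τ₁ φ) (χ ω) = 0 := by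
    intro φ hφ hi ω
    obtain ⟨B, hB, hBsum, -, -⟩ := exists_image_subset hsys subset_rfl hiso hag hφ (h.coreSet_conj hφ).1
    rw [hBsum, classInner_sum_left]
    exact Finset.sum_eq_zero fun α hα => horth φ hφ hi α (hB hα) ω
  rcases hopt b₀ hb₀ with e | e
  · refine ⟨τ₁, δ, false, hδ', hiso, hag, fun b hb => ?_, hirr'⟩
    rw [hmix b₀ b hb₀ hb e, hsgn]
    rfl
  · refine ⟨τ₁, -δ, true, by omega, hiso, hag, fun b hb => ?_, hirr'⟩
    rcases hopt b hb with e' | e'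
    · exfalso
      have e2 := hmix b b₀ hb hb₀ e'
      rw [e] at e2
      have e1 := congrArg (fun f => classInner f (χ (hd.idx 1 b₀))) e2
      simp only [classInner_neg_left, classInner_smul_left, hpair, if_true, hd.ti.inv_ne_self₂ hb₀, if_false,
        mul_zero, mul_one, neg_zero] at e1
      exact hd.ti.delta_ne_zero _ (show hd.sgn b₀ = 0 from e1.symm)
    · rw [e', hsgn, Int.cast_neg, neg_smul]
      rfl

end CoreHyp

end CfsgLib.OddOrder.S9b
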