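import Cfsg.Agent.Lib.OddOrder.S9b.TestFun
import Cfsg.Agent.Lib.OddOrder.Found.CoherenceTools
import Cfsg.Agent.Lib.CharTheory.Sibley
import Cfsg.Agent.Lib.CharTheory.FrobSection
import Cfsg.Agent.S1517

/-!
Peterfalvi (9.11): coherence of the characters induced from the characters of `K` nontrivial on `P`.
-/

set_option autoImplicit false
set_option linter.unusedSectionVars false
set_option linter.style.haveILetI false
set_option maxHeartbeats 1600000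

namespace CfsgLib.OddOrder.S9b

open Cfsg CfsgLib.CharTheory CfsgLib.OddOrder.Found
open scoped ComplexConjugate

universe u v

theorem two_pow_gt : ∀ n : ℕ, (n + 3) * (n + 5) < 6 * (2 ^ (n + 2) - 1)
  | 0 => by norm_num
  | n + 1 => by
    have ih := two_pow_gt n
    have h4 : 4 ≤ 2 ^ (n + 2) := by
      rw [pow_add]; exact Nat.le_mul_of_pos_left _ (Nat.two_pow_pos n)
    have e : 2 ^ (n + 1 + 2) = 2 * 2 ^ (n + 2) := by rw [← pow_succ']
    rw [e]
    have : (n + 1 + 3) * (n + 1 + 5) = (n + 3) * (n + 5) + (2 * n + 9) := by ring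
    have hn : 2 * n + 9 ≤ (n + 3) * (n + 5) := by nlinarith
    omega

variable {L : Type u} [Group L] [Fintype L] {K P U W₁ W₂ : Subgroup L} {p q : ℕ}
variable {G : Type v} [Group G] [Fintype G] {τ : (L → ℂ) → (G → ℂ)} {R : (L → ℂ) → Finset (G → ℂ)}

namespace CoreHyp

variable (h : CoreHyp K P U W₁ W₂ p q)
include h

theorem three_le_q : 3 ≤ q := h.card_W₁ ▸ h.prime.three_le₁

theorem conj_ofDegree {d : ℕ} {φ : L → ℂ} (hφ : φ ∈ h.ofDegree d) : conjFun φ ∈ h.ofDegree d := by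
  rw [h.mem_ofDegree] at hφ ⊢
  refine ⟨(h.coreSet_conj hφ.1).1, ?_⟩
  show conj (φ 1) = _
  rw [hφ.2, map_natCast]

theorem coherent_ofDegree {d : ℕ} (hsys : IsCoherenceSystem (coreSet K P) τ R) (hne : (h.ofDegree d).Nonempty) :
    IsCoherent (↑(h.ofDegree d) : Set (L → ℂ)) {1}ᶜ τ :=
  Cfsg.Agent.S1517.result _ τ R (coherenceSystem_subset hsys (fun φ hφ => (h.mem_ofDegree.mp hφ).1) hne
    fun φ hφ => h.conj_ofDegree hφ) fun φ hφ ψ hψ => by
      rw [(h.mem_ofDegree.mp hφ).2, (h.mem_ofDegree.mp hψ).2]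

/-- Coherence when every member has degree `q u`. -/
theorem coherent_of_degree_top [P.Normal] (hsys : IsCoherenceSystem (coreSet K P) τ R)
    (hall : ∀ α : P → ℂ, IsIrrCharacter P α → α ≠ (fun _ => 1) → degIdx K P α = uBar P U) :
    IsCoherent (coreSet K P) {1}ᶜ τ := by
  refine Cfsg.Agent.S1517.result _ τ R hsys fun φ hφ ψ hψ => ?_
  have key : ∀ ξ ∈ coreSet K P, ξ 1 = ((q * uBar P U : ℕ) : ℂ) := by
    rintro ξ ⟨θ, hθ, hk, rfl⟩
    obtain ⟨α, hα, hne, ho⟩ := h.exists_ne_one_over hθ hk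
    rw [indFun_apply_one, h.degree_of_over hθ hα ho, hall α hα hne, h.prime.index_eq, h.card_W₁, Nat.cast_mul]
  rw [key φ hφ, key ψ hψ]

theorem coherent_of_irreducible_action [P.Normal] (hsys : IsCoherenceSystem (coreSet K P) τ R)
    (hgal : ∀ X : Subgroup L, X ≤ P → U ≤ Subgroup.normalizer (X : Set L) → X = ⊥ ∨ X = P) :
    IsCoherent (coreSet K P) {1}ᶜ τ :=
  h.coherent_of_degree_top hsys fun _α hα hne => h.degIdx_eq_uBar hα (h.inertia_inf_le hα hne (Or.inr hgal))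

end CoreHyp

namespace IsLineSystem

variable {a : ℕ} {ℓ : Fin q → Subgroup L} (D : IsLineSystem P U W₁ p q ℓ a) (h : CoreHyp K P U W₁ W₂ p q)
include D h

/-- **(9.11)** in the non-Galois case. -/
theorem coherent [P.Normal] (hsys : IsCoherenceSystem (coreSet K P) τ R)
    (hext : ∀ φ : L → ℂ, IsGeneralizedCharacter L φ → φ 1 = 0 →
      (∀ g, ¬ (g ∈ K ∧ ∃ z ∈ P, z ≠ 1 ∧ z * g = g * z) → φ g = 0) →
      IsGeneralizedCharacter G (τ φ) ∧ classInner (τ φ) (τ φ) = classInner φ φ ∧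
        ∀ α ∈ zspanOn (coreSet K P) {1}ᶜ, classInner (τ φ) (τ α) = classInner φ α) :
    IsCoherent (coreSet K P) {1}ᶜ τ := by
  classical
  by_cases hau : a = uBar P U
  · refine h.coherent_of_degree_top hsys fun α hα hne => ?_
    exact Nat.dvd_antisymm (h.degIdx_dvd hα) (hau ▸ D.dvd_degIdx h hα hne)
  obtain ⟨ξ₀, hξ₀Y, φ, hφgen, hφ1, hφsupp, hφinner, M, hM, hMle⟩ := D.exists_test h hau
  have ha3 := D.three_le
  have hq3 := h.three_le_q
  -- `u = r a`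
  obtain ⟨r, hr⟩ : a ∣ uBar P U := by
    obtain ⟨⟨θ, hθ, hk, -⟩, -⟩ := h.mem_ofDegree.mp hξ₀Y
    obtain ⟨α, hα, hne, -⟩ := h.exists_ne_one_over hθ hk
    exact (D.dvd_degIdx h hα hne).trans (h.degIdx_dvd hα)
  have hr3 : 3 ≤ r := by
    have hodd : Odd r := Odd.of_dvd_nat h.uBar_odd (Dvd.intro_left _ hr.symm)
    have : r ≠ 1 := fun e => hau (by rw [hr, e, mul_one])
    obtain ⟨m, rfl⟩ := hodd
    omega
  set X := h.ofDegree (uBar P U) with hXdef
  set Y := h.ofDegree a with hYdef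
  set N := Y.card with hN
  set XI := h.topIrr with hXI
  have hN2 : 2 * r ≤ N := by
    have := D.card_low h
    rw [hr, show 2 * (a * r) = (2 * r) * a by ring] at this
    exact Nat.le_of_mul_le_mul_right this (by omega)
  have hp2a : 2 * a ≤ p - 1 := Nat.le_of_dvd (by have := h.hp.two_le; omega) D.two_mul
  have hpow : 4 ≤ 2 ^ (q - 1) := by
    calc 4 = 2 ^ 2 := by norm_num
      _ ≤ 2 ^ (q - 1) := Nat.pow_le_pow_right (by norm_num) (by omega)
  have hNI : 2 * a * (2 ^ (q - 1) - 1) ≤ q * XI.card := (Nat.mul_le_mul_right _ hp2a).trans (D.card_top h)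
  have hNI3 : 3 ≤ XI.card := by
    by_contra hlt
    have h6 : 6 * (2 ^ (q - 1) - 1) ≤ 2 * q :=
      (Nat.mul_le_mul_right _ (show 6 ≤ 2 * a by omega)).trans (hNI.trans (by
        rw [mul_comm 2 q]; exact Nat.mul_le_mul_left q (by omega)))
    have := two_pow_gt (q - 3)
    rw [show q - 3 + 3 = q by omega, show q - 3 + 5 = q + 2 by omega, show q - 3 + 2 = q - 1 by omega] at this
    have h9 : 2 * q ≤ q * (q + 2) := by rw [mul_comm 2 q]; exact Nat.mul_le_mul_left q (by omega)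
    omega
  obtain ⟨χ₀, hχ₀⟩ : XI.Nonempty := Finset.card_pos.mp (by omega)
  obtain ⟨hχ₀S, hχ₀1, hχ₀irr⟩ := h.mem_topIrr.mp hχ₀
  have hXIX : XI ⊆ X := fun χ hχ => h.mem_ofDegree.mpr ⟨(h.mem_topIrr.mp hχ).1, (h.mem_topIrr.mp hχ).2.1⟩
  have hXS : (↑X : Set (L → ℂ)) ⊆ coreSet K P := fun φ hφ => (h.mem_ofDegree.mp hφ).1
  have hYS : (↑Y : Set (L → ℂ)) ⊆ coreSet K P := fun φ hφ => (h.mem_ofDegree.mp hφ).1
  have hXY : ∀ χ ∈ X, ∀ ξ ∈ Y, χ ≠ ξ := fun χ hχ ξ hξ e => by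
    have h1 := (h.mem_ofDegree.mp hχ).2
    rw [e, (h.mem_ofDegree.mp hξ).2, Nat.cast_inj] at h1
    exact hau (Nat.eq_of_mul_eq_mul_left h.hq.pos h1)
  have hYirr : ∀ ξ ∈ Y, IsIrrCharacter L ξ := fun ξ hξ => h.irr_of_degree_ne (hYS hξ) fun e => hau (by
    rw [(h.mem_ofDegree.mp hξ).2, Nat.cast_inj] at e
    exact Nat.eq_of_mul_eq_mul_left h.hq.pos e)
  obtain ⟨-, τX, hτX, hagX⟩ := h.coherent_ofDegree hsys ⟨χ₀, hXIX hχ₀⟩
  obtain ⟨-, τY, hτY, hagY⟩ := h.coherent_ofDegree hsys ⟨ξ₀, hξ₀Y⟩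
  have horth : ∀ χ ∈ X, ∀ ξ ∈ Y, classInner (τX χ) (τY ξ) = 0 := fun χ hχ ξ hξ => by
    obtain ⟨B, hB, hBsum, -, -⟩ := exists_image_subset hsys hXS hτX hagX hχ (h.conj_ofDegree hχ)
    rw [hBsum, classInner_sum_left]
    refine Finset.sum_eq_zero fun α hα => ?_
    rw [← classInner_comm, cs_image_orth hsys hYS hτY hagY hξ (h.conj_ofDegree hξ) (hXS hχ)
      (Ne.symm (hXY χ hχ ξ hξ)) (Ne.symm (hXY _ (h.conj_ofDegree hχ) ξ hξ)) α (hB hα), map_zero]
  have hXmem : ∀ χ ∈ X, χ ∈ zspan (↑X : Set (L → ℂ)) := fun χ hχ => Submodule.subset_span hχ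
  have hYmem : ∀ ξ ∈ Y, ξ ∈ zspan (↑Y : Set (L → ℂ)) := fun ξ hξ => Submodule.subset_span hξ
  -- differences inside a block
  have hdiff : ∀ (d : ℕ) (σ : (L → ℂ) → (G → ℂ)), IsLinearIsometryOn (zspan (↑(h.ofDegree d) : Set (L → ℂ))) σ →
      (∀ α ∈ zspanOn (↑(h.ofDegree d) : Set (L → ℂ)) {1}ᶜ, σ α = τ α) → ∀ x ∈ h.ofDegree d, ∀ y ∈ h.ofDegree d,
      σ x - σ y = τ (x - y) ∧ x - y ∈ zspanOn (coreSet K P) {1}ᶜ := fun d σ hσ hag x hx y hy => by
    have hmem : x - y ∈ zspanOn (↑(h.ofDegree d) : Set (L → ℂ)) {1}ᶜ :=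
      ⟨Submodule.sub_mem _ (Submodule.subset_span hx) (Submodule.subset_span hy), fun z hz => by
        rw [not_not.mp hz, Pi.sub_apply, (h.mem_ofDegree.mp hx).2, (h.mem_ofDegree.mp hy).2, sub_self]⟩
    refine ⟨?_, ⟨Submodule.span_mono (fun φ hφ => (h.mem_ofDegree.mp hφ).1) hmem.1, hmem.2⟩⟩
    rw [← hag _ hmem, isometryOn_sub hσ (Submodule.subset_span hx) (Submodule.subset_span hy)]
  -- `β`
  set α₀ : L → ℂ := χ₀ - (r : ℤ) • ξ₀ with hα₀def
  have hα₀ : α₀ ∈ zspanOn (coreSet K P) {1}ᶜ :=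
    ⟨Submodule.sub_mem _ (Submodule.subset_span hχ₀S) (Submodule.smul_mem _ _ (Submodule.subset_span (hYS hξ₀Y))),
      fun x hx => by
        rw [not_not.mp hx, hα₀def, Pi.sub_apply, Pi.smul_apply, hχ₀1, (h.mem_ofDegree.mp hξ₀Y).2, zsmul_eq_mul, hr]
        push_cast; ring⟩
  have hξirr := hYirr ξ₀ hξ₀Y
  have hne0 : χ₀ ≠ ξ₀ := hXY χ₀ (hXIX hχ₀) ξ₀ hξ₀Y
  have hα₀inner : ∀ ψ : L → ℂ, classInner α₀ ψ = classInner χ₀ ψ - (r : ℂ) * classInner ξ₀ ψ := fun ψ => by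
    rw [hα₀def, classInner_sub_left, ← Int.cast_smul_eq_zsmul ℂ, classInner_smul_left, Int.cast_natCast]
  have hinnerα : ∀ ψ : L → ℂ, classInner ψ α₀ = classInner ψ χ₀ - (r : ℂ) * classInner ψ ξ₀ := fun ψ => by
    rw [hα₀def, classInner_sub_right, ← Int.cast_smul_eq_zsmul ℂ, classInner_smul_right, Int.cast_natCast,
      map_natCast]
  set β := τ α₀ with hβdef
  have hβgen := hsys.isometry.2.2.2 _ hα₀
  have hβnorm : classInner β β = ((1 + (r : ℤ) ^ 2 : ℤ) : ℂ) := by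
    rw [hβdef, hsys.isometry.2.2.1 _ hα₀ _ hα₀, hα₀inner, hinnerα, hinnerα, classInner_irr_self hχ₀irr,
      classInner_irr_self hξirr, classInner_irr_ne hχ₀irr hξirr hne0, classInner_irr_ne hξirr hχ₀irr (Ne.symm hne0)]
    push_cast; ring
  choose k hk using fun ξ : Y => classInner_genChar_int hβgen (hτY.2.2.2 _ (hYmem ξ ξ.2))
  choose l hl using fun χ : XI => classInner_genChar_int hβgen (hτX.2.2.2 _ (hXmem χ (hXIX χ.2)))
  set x : ℤ := k ⟨ξ₀, hξ₀Y⟩ + r with hxdef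
  set y : ℤ := l ⟨χ₀, hχ₀⟩ - 1 with hydef
  have hkx : ∀ ξ : Y, k ξ = x - r * if (ξ : L → ℂ) = ξ₀ then 1 else 0 := fun ξ => by
    obtain ⟨e, hmem⟩ := hdiff a τY hτY hagY ξ ξ.2 ξ₀ hξ₀Y
    have h1 : classInner β (τY ξ) - classInner β (τY ξ₀) = classInner α₀ ((ξ : L → ℂ) - ξ₀) := by
      rw [← classInner_sub_right, e, hβdef, hsys.isometry.2.2.1 _ hα₀ _ hmem]
    rw [hk ξ, hk ⟨ξ₀, hξ₀Y⟩, hα₀inner, classInner_sub_right, classInner_sub_right,
      classInner_irr_ne hχ₀irr (hYirr ξ ξ.2) (hXY _ (hXIX hχ₀) _ ξ.2), classInner_irr_ne hχ₀irr hξirr hne0,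
      classInner_irr hξirr (hYirr ξ ξ.2), classInner_irr_self hξirr] at h1
    have h2 : ((k ξ : ℤ) : ℂ) = ((x - r * if (ξ : L → ℂ) = ξ₀ then 1 else 0 : ℤ) : ℂ) := by
      rw [hxdef]
      by_cases e' : (ξ : L → ℂ) = ξ₀
      · rw [if_pos e'.symm] at h1; rw [if_pos e']; push_cast; linear_combination h1
      · rw [if_neg (Ne.symm e')] at h1; rw [if_neg e']; push_cast; linear_combination h1
    exact_mod_cast h2
  have hly : ∀ χ : XI, l χ = y + if (χ : L → ℂ) = χ₀ then 1 else 0 := fun χ => by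
    obtain ⟨hχS, hχ1, hχirr⟩ := h.mem_topIrr.mp χ.2
    obtain ⟨e, hmem⟩ := hdiff _ τX hτX hagX χ (hXIX χ.2) χ₀ (hXIX hχ₀)
    have h1 : classInner β (τX χ) - classInner β (τX χ₀) = classInner α₀ ((χ : L → ℂ) - χ₀) := by
      rw [← classInner_sub_right, e, hβdef, hsys.isometry.2.2.1 _ hα₀ _ hmem]
    rw [hl χ, hl ⟨χ₀, hχ₀⟩, hα₀inner, classInner_sub_right, classInner_sub_right,
      classInner_irr_ne hξirr hχirr (Ne.symm (hXY _ (hXIX χ.2) _ hξ₀Y)), classInner_irr_ne hξirr hχ₀irr (Ne.symm hne0),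
      classInner_irr hχ₀irr hχirr, classInner_irr_self hχ₀irr] at h1
    have h2 : ((l χ : ℤ) : ℂ) = ((y + if (χ : L → ℂ) = χ₀ then 1 else 0 : ℤ) : ℂ) := by
      rw [hydef]
      by_cases e' : (χ : L → ℂ) = χ₀
      · rw [if_pos e'.symm] at h1; rw [if_pos e']; push_cast; linear_combination h1
      · rw [if_neg (Ne.symm e')] at h1; rw [if_neg e']; push_cast; linear_combination h1
    exact_mod_cast h2
  -- the orthonormal images
  let e : Y ⊕ XI → (G → ℂ) := Sum.elim (fun ξ => τY ξ) (fun χ => τX χ)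
  have he : ∀ s t, classInner (e s) (e t) = if s = t then 1 else 0 := by
    rintro (⟨s, hs⟩ | ⟨s, hs⟩) (⟨t, ht⟩ | ⟨t, ht⟩)
    · show classInner (τY s) (τY t) = _
      rw [hτY.2.2.1 _ (hYmem s hs) _ (hYmem t ht), classInner_irr (hYirr s hs) (hYirr t ht)]
      simp
    · show classInner (τY s) (τX t) = _
      rw [← classInner_comm, horth t (hXIX ht) s hs, map_zero, if_neg Sum.inl_ne_inr]
    · show classInner (τX s) (τY t) = _
      rw [horth s (hXIX hs) t ht, if_neg Sum.inr_ne_inl]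
    · show classInner (τX s) (τX t) = _
      rw [hτX.2.2.1 _ (hXmem s (hXIX hs)) _ (hXmem t (hXIX ht)),
        classInner_irr (h.mem_topIrr.mp hs).2.2 (h.mem_topIrr.mp ht).2.2]
      simp
  have hsumY : ∀ c d : ℤ, ∑ ξ : Y, (c - d * if (ξ : L → ℂ) = ξ₀ then 1 else 0) ^ 2 = (N : ℤ) * c ^ 2 - 2 * c * d + d ^ 2 := by
    intro c d
    rw [Finset.sum_eq_add_sum_sdiff_singleton_of_mem (Finset.mem_univ (⟨ξ₀, hξ₀Y⟩ : Y)), if_pos rfl,
      Finset.sum_congr rfl fun (ξ : Y) hξ => show (c - d * if (ξ : L → ℂ) = ξ₀ then 1 else 0) ^ 2 = c ^ 2 by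
        rw [if_neg fun e' => (Finset.mem_sdiff.mp hξ).2 (Finset.mem_singleton.mpr (Subtype.ext e')), mul_zero, sub_zero],
      Finset.sum_const, Finset.card_sdiff, Finset.inter_univ, Finset.card_singleton, Finset.card_univ, Fintype.card_coe]
    have : 1 ≤ Y.card := Finset.card_pos.mpr ⟨ξ₀, hξ₀Y⟩
    rw [nsmul_eq_mul, ← hN, Nat.cast_sub (hN ▸ this)]
    ring
  have hsumX : ∀ c d : ℤ, ∑ χ : XI, (c + d * if (χ : L → ℂ) = χ₀ then 1 else 0) ^ 2 = (XI.card : ℤ) * c ^ 2 + 2 * c * d + d ^ 2 := by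
    intro c d
    rw [Finset.sum_eq_add_sum_sdiff_singleton_of_mem (Finset.mem_univ (⟨χ₀, hχ₀⟩ : XI)), if_pos rfl,
      Finset.sum_congr rfl fun (χ : XI) hχ => show (c + d * if (χ : L → ℂ) = χ₀ then 1 else 0) ^ 2 = c ^ 2 by
        rw [if_neg fun e' => (Finset.mem_sdiff.mp hχ).2 (Finset.mem_singleton.mpr (Subtype.ext e')), mul_zero, add_zero],
      Finset.sum_const, Finset.card_sdiff, Finset.inter_univ, Finset.card_singleton, Finset.card_univ, Fintype.card_coe]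
    have : 1 ≤ XI.card := Finset.card_pos.mpr ⟨χ₀, hχ₀⟩
    rw [nsmul_eq_mul, Nat.cast_sub this]
    ring
  obtain ⟨hle, heq⟩ := Ten.bessel_int (e := e) (c := Sum.elim k l) he
    (fun s => by rcases s with s | s; exacts [hk s, hl s]) hβnorm
  have hsum : ∑ s, (Sum.elim k l s) ^ 2 =
      ((N : ℤ) * x ^ 2 - 2 * r * x) + ((XI.card : ℤ) * y ^ 2 + 2 * y) + (1 + (r : ℤ) ^ 2) := by
    rw [Fintype.sum_sum_type]
    simp only [Sum.elim_inl, Sum.elim_inr]
    rw [Finset.sum_congr rfl fun ξ _ => by rw [hkx ξ], hsumY,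
      Finset.sum_congr rfl fun (χ : XI) _ => show l χ ^ 2 = (y + 1 * if (χ : L → ℂ) = χ₀ then 1 else 0) ^ 2 by
        rw [hly χ, one_mul], hsumX]
    ring
  have hNz : 2 * (r : ℤ) ≤ N := by exact_mod_cast hN2
  have hNIz : 3 ≤ (XI.card : ℤ) := by exact_mod_cast hNI3
  have hT1 : 0 ≤ (N : ℤ) * x ^ 2 - 2 * r * x := by
    have h1 : 0 ≤ x ^ 2 - x := sub_nonneg.mpr (Int.le_self_sq x)
    nlinarith [mul_nonneg (sub_nonneg.mpr hNz) (sq_nonneg x), mul_nonneg (show (0 : ℤ) ≤ 2 * r by positivity) h1]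
  have hT2 : 0 ≤ (XI.card : ℤ) * y ^ 2 + 2 * y := by
    have h1 : 0 ≤ (-y) ^ 2 - (-y) := sub_nonneg.mpr (Int.le_self_sq (-y))
    nlinarith [mul_nonneg (sub_nonneg.mpr hNIz) (sq_nonneg y), sq_nonneg y]
  rw [hsum] at hle
  have hy0 : y = 0 := by
    have h1 : (XI.card : ℤ) * y ^ 2 + 2 * y = 0 := le_antisymm (by linarith) hT2
    by_contra hy
    have h2 : y * ((XI.card : ℤ) * y + 2) = 0 := by linear_combination h1
    have h3 := (mul_eq_zero.mp h2).resolve_left hy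
    rcases lt_or_gt_of_ne hy with hy' | hy'
    · nlinarith
    · nlinarith
  have hxN : x * ((N : ℤ) * x - 2 * r) = 0 := by
    have h1 : (N : ℤ) * x ^ 2 - 2 * r * x = 0 := le_antisymm (by linarith) hT1
    linear_combination h1
  have hβexp : β = (∑ ξ : Y, ((x - r * if (ξ : L → ℂ) = ξ₀ then 1 else 0 : ℤ) : ℂ) • τY ξ) + τX χ₀ := by
    rw [heq (le_antisymm (hsum ▸ hle) (by rw [hsum]; linarith)), Fintype.sum_sum_type]
    congr 1
    · exact Finset.sum_congr rfl fun ξ _ => by simp [e, hkx]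
    · rw [Finset.sum_eq_single (⟨χ₀, hχ₀⟩ : XI)]
      · simp [e, hly, hy0]
      · intro χ _ hne
        have : (χ : L → ℂ) ≠ χ₀ := fun e' => hne (Subtype.ext e')
        simp [e, hly, hy0, this]
      · exact fun hn => absurd (Finset.mem_univ _) hn
  -- `x = 0`
  have hx0 : x = 0 := by
    by_contra hx
    have h1 := (mul_eq_zero.mp hxN).resolve_left hx
    have hxpos : 1 ≤ x := by
      by_contra hlt
      nlinarith [mul_nonneg (sub_nonneg.mpr hNz) (show (0 : ℤ) ≤ -x by omega)]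
    have hx1 : x = 1 := le_antisymm (by nlinarith) hxpos
    have hNeq : (N : ℤ) = 2 * r := by rw [hx1] at h1; linarith
    obtain ⟨hΦgen, hΦnorm, hΦinner⟩ := hext φ hφgen hφ1 hφsupp
    set Φ := τ φ with hΦ
    obtain ⟨m, hm⟩ := classInner_genChar_int hφgen hφgen
    choose k' hk' using fun ξ : Y => classInner_genChar_int hΦgen (hτY.2.2.2 _ (hYmem ξ ξ.2))
    choose l' hl' using fun χ : XI => classInner_genChar_int hΦgen (hτX.2.2.2 _ (hXmem χ (hXIX χ.2)))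
    set c : ℤ := k' ⟨ξ₀, hξ₀Y⟩ + 1 with hc
    have hk'c : ∀ ξ : Y, k' ξ = c - 1 * if (ξ : L → ℂ) = ξ₀ then 1 else 0 := fun ξ => by
      obtain ⟨e', hmem⟩ := hdiff a τY hτY hagY ξ ξ.2 ξ₀ hξ₀Y
      have h2 : classInner Φ (τY ξ) - classInner Φ (τY ξ₀) = classInner φ (ξ : L → ℂ) - classInner φ ξ₀ := by
        rw [← classInner_sub_right, e', hΦinner _ hmem, classInner_sub_right]
      rw [hk' ξ, hk' ⟨ξ₀, hξ₀Y⟩, hφinner _ (hYS ξ.2), hφinner _ (hYS hξ₀Y),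
        classInner_irr hξirr (hYirr ξ ξ.2), classInner_irr_self hξirr] at h2
      have h3 : ((k' ξ : ℤ) : ℂ) = ((c - 1 * if (ξ : L → ℂ) = ξ₀ then 1 else 0 : ℤ) : ℂ) := by
        rw [hc]
        by_cases e'' : (ξ : L → ℂ) = ξ₀
        · rw [if_pos e''.symm] at h2; rw [if_pos e'']; push_cast; linear_combination h2
        · rw [if_neg (Ne.symm e'')] at h2; rw [if_neg e'']; push_cast; linear_combination h2
      exact_mod_cast h3
    have hl'c : ∀ χ : XI, l' χ = l' ⟨χ₀, hχ₀⟩ := fun χ => by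
      obtain ⟨hχS, -, hχirr⟩ := h.mem_topIrr.mp χ.2
      obtain ⟨e', hmem⟩ := hdiff _ τX hτX hagX χ (hXIX χ.2) χ₀ (hXIX hχ₀)
      have h2 : classInner Φ (τX χ) - classInner Φ (τX χ₀) = classInner φ (χ : L → ℂ) - classInner φ χ₀ := by
        rw [← classInner_sub_right, e', hΦinner _ hmem, classInner_sub_right]
      rw [hl' χ, hl' ⟨χ₀, hχ₀⟩, hφinner _ hχS, hφinner _ hχ₀S,
        classInner_irr_ne hξirr hχirr (Ne.symm (hXY _ (hXIX χ.2) _ hξ₀Y)),
        classInner_irr_ne hξirr hχ₀irr (Ne.symm hne0), neg_zero, sub_zero, sub_eq_zero] at h2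
      exact_mod_cast h2
    set Dv := l' ⟨χ₀, hχ₀⟩ with hDv
    have hDval : Dv = 1 - r * c := by
      have h2 := hΦinner _ hα₀
      rw [← hβdef, hinnerα, hφinner _ hχ₀S, hφinner _ (hYS hξ₀Y), classInner_irr_ne hξirr hχ₀irr (Ne.symm hne0),
        classInner_irr_self hξirr, hβexp, classInner_add_right, classInner_sum_right,
        hl' ⟨χ₀, hχ₀⟩, Finset.sum_congr rfl fun ξ _ => by
          rw [classInner_smul_right, map_intCast, hk' ξ, hk'c ξ, ← Int.cast_mul]] at h2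
      rw [← Int.cast_sum, ← hDv, ← Int.cast_add] at h2
      have h3 : (((∑ ξ : Y, (x - r * if (ξ : L → ℂ) = ξ₀ then 1 else 0) *
          (c - 1 * if (ξ : L → ℂ) = ξ₀ then 1 else 0)) + Dv : ℤ) : ℂ) = ((r : ℤ) : ℂ) := by
        rw [h2]; push_cast; ring
      have h4 : (∑ ξ : Y, (x - r * if (ξ : L → ℂ) = ξ₀ then 1 else 0) *
          (c - 1 * if (ξ : L → ℂ) = ξ₀ then 1 else 0)) + Dv = r := by exact_mod_cast h3
      rw [Finset.sum_eq_add_sum_sdiff_singleton_of_mem (Finset.mem_univ (⟨ξ₀, hξ₀Y⟩ : Y)), if_pos rfl,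
        Finset.sum_congr rfl fun (ξ : Y) hξ => show (x - r * if (ξ : L → ℂ) = ξ₀ then 1 else 0) *
            (c - 1 * if (ξ : L → ℂ) = ξ₀ then 1 else 0) = x * c by
          rw [if_neg fun e' => (Finset.mem_sdiff.mp hξ).2 (Finset.mem_singleton.mpr (Subtype.ext e'))]; ring,
        Finset.sum_const, Finset.card_sdiff, Finset.inter_univ, Finset.card_singleton, Finset.card_univ,
        Fintype.card_coe, nsmul_eq_mul, ← hN, Nat.cast_sub (by omega : 1 ≤ N), hx1] at h4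
      push_cast at h4
      rw [hNeq] at h4
      linear_combination h4
    have hD0 : Dv ≠ 0 := by
      rw [hDval]
      intro e'
      have hrc : (r : ℤ) * c = 1 := by linarith
      have hr1 := Int.eq_one_of_mul_eq_one_right (by positivity) hrc
      omega
    obtain ⟨hle', -⟩ := Ten.bessel_int (e := e) (c := Sum.elim k' l') he
      (fun s => by rcases s with s | s; exacts [hk' s, hl' s]) (hΦnorm.trans hm)
    rw [Fintype.sum_sum_type] at hle'
    simp only [Sum.elim_inl, Sum.elim_inr] at hle'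
    rw [Finset.sum_congr rfl fun ξ _ => by rw [hk'c ξ], hsumY, Finset.sum_congr rfl fun χ _ => by rw [hl'c χ],
      Finset.sum_const, Finset.card_univ, Fintype.card_coe, nsmul_eq_mul] at hle'
    have hYpart : 1 ≤ (N : ℤ) * c ^ 2 - 2 * c * 1 + 1 ^ 2 := by
      have h0 : 0 ≤ c ^ 2 - c := sub_nonneg.mpr (Int.le_self_sq c)
      nlinarith [mul_nonneg (show (0 : ℤ) ≤ (N : ℤ) - 2 by omega) (sq_nonneg c)]
    have hXpart : (XI.card : ℤ) ≤ (XI.card : ℤ) * Dv ^ 2 :=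
      le_mul_of_one_le_right (Nat.cast_nonneg _) (by
        have : 0 < Dv ^ 2 := sq_pos_of_ne_zero hD0
        omega)
    have hmM : (m : ℝ) = M := by
      rw [hm] at hM
      exact_mod_cast hM
    have h5 : (XI.card : ℤ) + 1 ≤ m := by linarith
    have h6 : 3 * m ≤ 3 + 3 * (a : ℤ) + ((q - 1 : ℕ) : ℤ) * a := by
      have : (3 : ℝ) * m ≤ 3 + 3 * a + ((q - 1 : ℕ) : ℝ) * a := hmM ▸ hMle
      exact_mod_cast this
    rw [Nat.cast_sub h.hq.one_le] at h6
    push_cast at h6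
    have h7 : 3 * XI.card ≤ (q + 2) * a := by
      have : 3 * (XI.card : ℤ) ≤ ((q : ℤ) + 2) * a := by linarith
      exact_mod_cast this
    have h8 := two_pow_gt (q - 3)
    rw [show q - 3 + 3 = q by omega, show q - 3 + 5 = q + 2 by omega, show q - 3 + 2 = q - 1 by omega] at h8
    have h9 : (6 * (2 ^ (q - 1) - 1)) * a ≤ (q * (q + 2)) * a := by
      calc (6 * (2 ^ (q - 1) - 1)) * a = 3 * (2 * a * (2 ^ (q - 1) - 1)) := by ring
        _ ≤ 3 * (q * XI.card) := Nat.mul_le_mul_left 3 hNI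
        _ = q * (3 * XI.card) := by ring
        _ ≤ q * ((q + 2) * a) := Nat.mul_le_mul_left q h7
        _ = (q * (q + 2)) * a := by ring
    exact absurd (Nat.le_of_mul_le_mul_right h9 (by omega)) (not_le.mpr h8)
  -- glue
  have hbridge : τ (χ₀ - (r : ℤ) • ξ₀) = τX χ₀ - τY ((r : ℤ) • ξ₀) := by
    rw [← hα₀def, ← hβdef, hβexp, hx0, hτY.2.1 _ (hYmem ξ₀ hξ₀Y)]
    rw [Finset.sum_eq_single (⟨ξ₀, hξ₀Y⟩ : Y) (fun ξ _ hne => by
      rw [if_neg fun e' => hne (Subtype.ext e'), mul_zero, sub_zero, Int.cast_zero, zero_smul])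
      (fun hn => absurd (Finset.mem_univ _) hn), if_pos rfl, ← Int.cast_smul_eq_zsmul ℂ]
    simp only [mul_one, zero_sub, Int.cast_neg, Int.cast_natCast, neg_smul]
    abel
  have hsub : (↑X ∪ ↑Y : Set (L → ℂ)) ⊆ coreSet K P := Set.union_subset hXS hYS
  obtain ⟨ρ, -, -, -, -, hcohB⟩ := bridge_coherent (A := ({1}ᶜ : Set L)) (τ := τ)
    (isometryOn_mono (E' := zspanOn ((↑X : Set (L → ℂ)) ∪ ↑Y) {1}ᶜ) (fun α hα => (⟨Submodule.span_mono hsub hα.1, hα.2⟩ : α ∈ zspanOn (coreSet K P) {1}ᶜ)) hsys.isometry)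
    (fun hc => hc rfl) (fun ξ _ z hz hz1 => absurd (not_not.mp hz) hz1)
    (fun ξ hξ => by
      obtain ⟨n, hn⟩ := char_one_eq_natCast (h.coreSet_isCharacter (hsub hξ))
      exact ⟨n, by rw [hn]; norm_num⟩)
    (fun χ hχ ξ hξ => h.coreSet_orthogonal (hXS hχ) (hYS hξ) (hXY χ hχ ξ hξ))
    hτX hτY hagX hagY horth (φ := χ₀) (ψ := (r : ℤ) • ξ₀) (hXmem _ (hXIX hχ₀))
    (Submodule.smul_mem _ _ (hYmem _ hξ₀Y))
    (by rw [Pi.smul_apply, hχ₀1, (h.mem_ofDegree.mp hξ₀Y).2, zsmul_eq_mul, hr]; push_cast; ring)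
    (by rw [hχ₀1, Nat.cast_ne_zero]; exact (Nat.mul_pos h.hq.pos h.uBar_pos).ne')
    hbridge ⟨α₀, ⟨Submodule.sub_mem _ (Submodule.span_mono Set.subset_union_left (hXmem _ (hXIX hχ₀)))
      (Submodule.smul_mem _ _ (Submodule.span_mono Set.subset_union_right (hYmem _ hξ₀Y))), hα₀.2⟩, fun e0 => by
      have := congrArg (fun f => classInner f χ₀) e0
      simp only [hα₀inner, classInner_irr_self hχ₀irr, classInner_irr_ne hξirr hχ₀irr (Ne.symm hne0), mul_zero,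
        sub_zero, classInner_zero_left] at this
      exact one_ne_zero this⟩
  -- extend to every member
  let dg : (L → ℂ) → ℕ := fun φ => ⌊(φ 1).re⌋₊
  let nf : (L → ℂ) → ℕ := fun φ => ⌊(classInner φ φ).re⌋₊
  have hdg : ∀ φ ∈ coreSet K P, φ 1 = (dg φ : ℂ) := fun φ hφ => by
    obtain ⟨n, hn⟩ := char_one_eq_natCast (h.coreSet_isCharacter hφ)
    simp [dg, hn]
  have hnf : ∀ φ ∈ coreSet K P, classInner φ φ = (nf φ : ℂ) := fun φ hφ => by
    obtain ⟨n, hn⟩ := classInner_char_nat (h.coreSet_isCharacter hφ) (h.coreSet_isCharacter hφ)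
    simp [nf, hn]
  have hBset : (↑(X ∪ Y) : Set (L → ℂ)) = ↑X ∪ ↑Y := Finset.coe_union X Y
  have hdξ : dg ξ₀ = q * a := by simp [dg, (h.mem_ofDegree.mp hξ₀Y).2, ← Nat.cast_mul]
  refine coherent_extend_all hsys dg nf hdg hnf h.coreSet_finite.toFinset (Set.Finite.coe_toFinset _) (X ∪ Y)
    (hBset ▸ hsub) (fun φ hφ => ?_) (hBset ▸ hcohB) (χ₁ := ξ₀) (Finset.mem_union_right _ hξ₀Y) ?_ ?_
  · rcases Finset.mem_union.mp hφ with hφ | hφ
    · exact Finset.mem_union_left _ (h.conj_ofDegree hφ)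
    · exact Finset.mem_union_right _ (h.conj_ofDegree hφ)
  · rintro χ ⟨θ, hθ, hk', rfl⟩ -
    obtain ⟨α, hα, hne, ho⟩ := h.exists_ne_one_over hθ hk'
    rw [hdξ]
    have hval : indFun K θ 1 = ((q * degIdx K P α : ℕ) : ℂ) := by
      rw [indFun_apply_one, h.degree_of_over hθ hα ho, h.prime.index_eq, h.card_W₁, Nat.cast_mul]
    simp only [dg, hval, Complex.natCast_re, Nat.floor_natCast]
    exact Nat.mul_dvd_mul_left q (D.dvd_degIdx h hα hne)
  · rintro χ ⟨θ, hθ, hk', rfl⟩ -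
    obtain ⟨d, hd, -, -, hval⟩ := h.coreSet_degree hθ hk'
    have hdu : d ≤ uBar P U := Nat.le_of_dvd h.uBar_pos hd
    have hdχ : dg (indFun K θ) = q * d := by simp [dg, hval, ← Nat.cast_mul]
    rw [hdξ, hdχ]
    have hge : ((XI.card : ℝ) * ((q * uBar P U : ℕ) : ℝ) ^ 2) ≤ ∑ φ ∈ X ∪ Y, ((dg φ : ℝ) ^ 2 / (nf φ : ℝ)) := by
      refine le_trans (le_of_eq ?_) (Finset.sum_le_sum_of_subset_of_nonneg
        (hXIX.trans Finset.subset_union_left) fun i _ _ => by positivity)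
      rw [← nsmul_eq_mul, ← Finset.sum_const]
      refine Finset.sum_congr rfl fun φ hφ => ?_
      obtain ⟨-, h1, hi⟩ := h.mem_topIrr.mp hφ
      simp only [dg, nf, h1, classInner_irr_self hi, Complex.natCast_re, Complex.one_re, Nat.floor_natCast,
        Nat.floor_one, Nat.cast_one, div_one]
    refine lt_of_lt_of_le ?_ hge
    have hnat : 2 * (q * d) * (q * a) < XI.card * (q * uBar P U) ^ 2 := by
      have hau' : a ≤ uBar P U := hr ▸ Nat.le_mul_of_pos_right a (by omega)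
      calc 2 * (q * d) * (q * a) ≤ 2 * (q * uBar P U) * (q * uBar P U) := by gcongr
        _ = 2 * (q * uBar P U) ^ 2 := by ring
        _ < 3 * (q * uBar P U) ^ 2 :=
          Nat.mul_lt_mul_of_pos_right (by norm_num) (pow_pos (Nat.mul_pos h.hq.pos h.uBar_pos) 2)
        _ ≤ _ := Nat.mul_le_mul_right _ hNI3
    exact_mod_cast hnat

end IsLineSystem

end CfsgLib.OddOrder.S9b
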