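import Cfsg.Agent.Lib.OddOrder.S9b.Lines

/-!
Peterfalvi (9.8)-(9.10): how many members have degree `q a` and how many irreducible ones degree `q u`.
-/

set_option autoImplicit false
set_option linter.unusedSectionVars false
set_option linter.style.haveILetI false

namespace CfsgLib.OddOrder.S9b

open Cfsg CfsgLib.CharTheory CfsgLib.OddOrder.Found
open scoped ComplexConjugate

universe u

variable {L : Type u} [Group L] [Fintype L] {K P U W₁ W₂ : Subgroup L} {p q : ℕ}

namespace CoreHyp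

variable (h : CoreHyp K P U W₁ W₂ p q)
include h

open Classical in
/-- The members of degree `q d`. -/
noncomputable def ofDegree (d : ℕ) : Finset (L → ℂ) :=
  h.coreSet_finite.toFinset.filter fun φ => φ 1 = ((q * d : ℕ) : ℂ)

theorem mem_ofDegree {d : ℕ} {φ : L → ℂ} :
    φ ∈ h.ofDegree d ↔ φ ∈ coreSet K P ∧ φ 1 = ((q * d : ℕ) : ℂ) := by
  classical
  simp [ofDegree]

open Classical in
/-- The irreducible members of degree `q u`. -/
noncomputable def topIrr : Finset (L → ℂ) := (h.ofDegree (uBar P U)).filter fun φ => IsIrrCharacter L φ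

theorem mem_topIrr {φ : L → ℂ} :
    φ ∈ h.topIrr ↔ φ ∈ coreSet K P ∧ φ 1 = ((q * uBar P U : ℕ) : ℂ) ∧ IsIrrCharacter L φ := by
  classical
  simp [topIrr, mem_ofDegree, and_assoc]

/-- At most `q` characters of `K` induce to the same character of `L`. -/
theorem card_le_image (Θ : Finset (K → ℂ)) (hΘ : ∀ θ ∈ Θ, IsIrrCharacter K θ) [DecidableEq (L → ℂ)] :
    Θ.card ≤ q * (Θ.image (indFun K)).card := by
  classical
  haveI := h.prime.normal
  haveI := Fintype.ofFinite K
  refine Finset.card_le_mul_card_image Θ q fun φ hφ => ?_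
  obtain ⟨θ, hθ, rfl⟩ := Finset.mem_image.mp hφ
  have hsub : (Θ.filter fun η => indFun K η = indFun K θ) ⊆ conjOrbit K θ := fun η hη => by
    obtain ⟨hη, e⟩ := Finset.mem_filter.mp hη
    rw [mem_conjOrbit]
    by_contra hno
    push Not at hno
    have h0 := indFun_orthogonal_of_not_conj K (hΘ η hη) (hΘ θ hθ) fun ⟨g, hg⟩ => hno g hg
    rw [e] at h0
    have h1 := classInner_indFun_self K (hΘ θ hθ)
    rw [h0, mul_zero] at h1
    exact Nat.card_pos.ne' (Nat.cast_eq_zero.mp h1.symm)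
  refine (Finset.card_le_card hsub).trans ?_
  rw [card_conjOrbit, ← h.card_W₁, ← h.prime.index_eq]
  exact Nat.le_of_dvd (Nat.pos_of_ne_zero Subgroup.index_ne_zero_of_finite)
    (Subgroup.index_dvd_of_le (le_inertia K (isClassFunction_irr (hΘ θ hθ))))

/-- The characters of `K` over a set of characters of `P`. -/
theorem exists_overSet (S : Finset (P → ℂ)) :
    ∃ Θ : Finset (K → ℂ), ∀ θ, θ ∈ Θ ↔ IsIrrCharacter K θ ∧ ∃ α ∈ S, Over h.P_le θ α := by
  classical
  haveI := Fintype.ofFinite K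
  refine ⟨((Finset.univ : Finset (IrrCharacter K)).image Subtype.val).filter fun θ => ∃ α ∈ S, Over h.P_le θ α,
    fun θ => ?_⟩
  simp only [Finset.mem_filter, Finset.mem_image, Finset.mem_univ, true_and]
  exact and_congr_left fun _ => ⟨fun ⟨χ, hχ⟩ => hχ ▸ χ.2, fun hi => ⟨⟨θ, hi⟩, rfl⟩⟩

theorem not_kernel_of_over [P.Normal] {θ : K → ℂ} (hθ : IsIrrCharacter K θ) {α : P → ℂ} (hα : IsIrrCharacter P α)
    (hne : α ≠ fun _ => 1) (ho : Over h.P_le θ α) : ¬ ∀ z : K, (z : L) ∈ P → θ z = θ 1 := by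
  intro hk
  letI := Fintype.ofFinite P
  unfold Over at ho
  refine ho ?_
  rw [show (fun z : P => θ ⟨z, h.P_le z.2⟩) = θ 1 • fun _ : P => (1 : ℂ) from funext fun z => by
    rw [Pi.smul_apply, smul_eq_mul, mul_one, hk ⟨z, h.P_le z.2⟩ z.2],
    classInner_smul_left, classInner_irr_ne isIrrCharacter_one hα (Ne.symm hne), mul_zero]

end CoreHyp

namespace IsLineSystem

variable {a : ℕ} {ℓ : Fin q → Subgroup L} (D : IsLineSystem P U W₁ p q ℓ a) (h : CoreHyp K P U W₁ W₂ p q)
include D h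

theorem single_ne_one [P.Normal] {α : P → ℂ} (hs : ∃! i, OnLine ℓ α i) : α ≠ fun _ => 1 := by
  obtain ⟨i, ⟨z, -, hz⟩, -⟩ := hs
  exact fun e => hz (congrFun e z)

/-- **(9.8)** `2 u ≤ N a` for the number `N` of members of degree `q a`. -/
theorem card_low [P.Normal] : 2 * uBar P U ≤ (h.ofDegree a).card * a := by
  classical
  letI := Fintype.ofFinite P
  set S := withSupport (P := P) ℓ fun s => ∃! i, s i with hS
  obtain ⟨Θ, hΘ⟩ := h.exists_overSet S
  have hdeg : ∀ α ∈ S, degIdx K P α = a := fun α hα => by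
    obtain ⟨hi, i, hi', huniq⟩ := (D.mem_withSupport h).mp hα
    exact D.degIdx_single h hi hi' huniq
  have hcount := h.card_over_mul S Θ (fun α hα => ((D.mem_withSupport h).mp hα).1)
    (fun α hα k hk => D.withSupport_stable h hα hk) hdeg hΘ
  have hsub : Θ.image (indFun K) ⊆ h.ofDegree a := fun φ hφ => by
    obtain ⟨θ, hθ, rfl⟩ := Finset.mem_image.mp hφ
    obtain ⟨hθi, α, hα, ho⟩ := (hΘ θ).mp hθ
    have hαi := ((D.mem_withSupport h).mp hα).1
    refine h.mem_ofDegree.mpr ⟨⟨θ, hθi, h.not_kernel_of_over hθi hαi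
      (D.single_ne_one h ((D.mem_withSupport h).mp hα).2) ho, rfl⟩, ?_⟩
    rw [indFun_apply_one, h.degree_of_over hθi hαi ho, hdeg α hα, h.prime.index_eq, h.card_W₁, Nat.cast_mul]
  have h1 : Θ.card ≤ q * (h.ofDegree a).card :=
    (h.card_le_image Θ fun θ hθ => ((hΘ θ).mp hθ).1).trans (Nat.mul_le_mul_left q (Finset.card_le_card hsub))
  have h2 := D.card_single_ge h
  obtain ⟨c, hc⟩ := D.two_mul
  have hu : uBar P U ≤ Nat.card U := Nat.le_of_dvd Nat.card_pos h.uBar_dvd_card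
  have hc1 : 1 ≤ c := Nat.one_le_iff_ne_zero.mpr fun e => by
    rw [e, mul_zero] at hc
    have := h.hp.two_le
    omega
  have key : (q * a) * (2 * uBar P U) ≤ (q * a) * ((h.ofDegree a).card * a) := by
    calc (q * a) * (2 * uBar P U) = q * (2 * a * 1) * uBar P U := by ring
      _ ≤ q * (2 * a * c) * Nat.card U := by gcongr
      _ ≤ S.card * Nat.card U := by rw [← hc]; exact Nat.mul_le_mul_right _ h2
      _ = Θ.card * a ^ 2 := hcount.symm
      _ ≤ (q * (h.ofDegree a).card) * a ^ 2 := Nat.mul_le_mul_right _ h1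
      _ = (q * a) * ((h.ofDegree a).card * a) := by ring
  exact Nat.le_of_mul_le_mul_left key (Nat.mul_pos h.hq.pos (by have := D.three_le; omega))

/-- **(9.8)** the number of irreducible members of degree `q u`. -/
theorem card_top [P.Normal] : (p - 1) * (2 ^ (q - 1) - 1) ≤ q * h.topIrr.card := by
  classical
  letI := Fintype.ofFinite P
  haveI := Fintype.ofFinite (W₂ →* ℂˣ)
  set S := withSupport (P := P) ℓ fun s => ∀ i, s i with hS
  obtain ⟨Θ, hΘ⟩ := h.exists_overSet S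
  have hdeg : ∀ α ∈ S, degIdx K P α = uBar P U := fun α hα => by
    obtain ⟨hi, hall⟩ := (D.mem_withSupport h).mp hα
    exact D.degIdx_full h hi hall
  have hcount := h.card_over_mul S Θ (fun α hα => ((D.mem_withSupport h).mp hα).1)
    (fun α hα k hk => D.withSupport_stable h hα hk) hdeg hΘ
  have hne : ∀ α ∈ S, α ≠ fun _ => 1 := fun α hα e => by
    obtain ⟨-, hall⟩ := (D.mem_withSupport h).mp hα
    obtain ⟨z, -, hz⟩ := hall ⟨0, h.hq.pos⟩
    exact hz (congrFun e z)
  set T := Θ.filter fun θ => ∀ b, θ ≠ h.prime.colChar b with hT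
  set B := ((Finset.univ : Finset (W₂ →* ℂˣ)).erase 1).image h.prime.colChar with hB
  have hker : ∀ θ ∈ Θ, ¬ ∀ z : K, (z : L) ∈ P → θ z = θ 1 := fun θ hθ => by
    obtain ⟨hθi, α, hα, ho⟩ := (hΘ θ).mp hθ
    exact h.not_kernel_of_over hθi ((D.mem_withSupport h).mp hα).1 (hne α hα) ho
  have hsplit : Θ.card ≤ T.card + (p - 1) := by
    have h1 : Θ ⊆ T ∪ B := fun θ hθ => by
      by_cases hb : ∀ b, θ ≠ h.prime.colChar b
      · exact Finset.mem_union_left _ (Finset.mem_filter.mpr ⟨hθ, hb⟩)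
      · push Not at hb
        obtain ⟨b, rfl⟩ := hb
        refine Finset.mem_union_right _ (Finset.mem_image.mpr ⟨b, Finset.mem_erase.mpr ⟨fun e => ?_, Finset.mem_univ _⟩, rfl⟩)
        refine hker _ hθ fun z _ => ?_
        rw [e, h.prime.colChar_one]
    have h2 : B.card ≤ p - 1 := by
      refine Finset.card_image_le.trans (le_of_eq ?_)
      rw [Finset.card_erase_of_mem (Finset.mem_univ _), Finset.card_univ]
      have := sum_hom_abelian h.prime.comm₂ 1
      simp at this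
      rw [← h.card_W₂, Nat.card_eq_fintype_card]
      congr 1
    exact (Finset.card_le_card h1).trans ((Finset.card_union_le _ _).trans (by omega))
  have hsub : T.image (indFun K) ⊆ h.topIrr := fun φ hφ => by
    obtain ⟨θ, hθ, rfl⟩ := Finset.mem_image.mp hφ
    obtain ⟨hθΘ, hb⟩ := Finset.mem_filter.mp hθ
    obtain ⟨hθi, α, hα, ho⟩ := (hΘ θ).mp hθΘ
    refine h.mem_topIrr.mpr ⟨⟨θ, hθi, hker θ hθΘ, rfl⟩, ?_, h.prime.isIrr_indFun_of_ne hθi hb⟩
    rw [indFun_apply_one, h.degree_of_over hθi ((D.mem_withSupport h).mp hα).1 ho, hdeg α hα, h.prime.index_eq,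
      h.card_W₁, Nat.cast_mul]
  have h1 : T.card ≤ q * h.topIrr.card :=
    (h.card_le_image T fun θ hθ => ((hΘ θ).mp (Finset.mem_filter.mp hθ).1).1).trans
      (Nat.mul_le_mul_left q (Finset.card_le_card hsub))
  have h2 := D.card_full_ge h
  have hu : uBar P U ≤ Nat.card U := Nat.le_of_dvd Nat.card_pos h.uBar_dvd_card
  have hu0 := h.uBar_pos
  obtain ⟨c, hc⟩ := D.two_mul
  have hq1 : q = (q - 1) + 1 := (Nat.sub_add_cancel h.hq.one_le).symm
  have h2a : 2 * a ≤ p - 1 := Nat.le_of_dvd (by have := h.hp.two_le; omega) ⟨c, hc⟩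
  have key : ((p - 1) * 2 ^ (q - 1)) * uBar P U ≤ Θ.card * uBar P U := by
    have hA : ((p - 1) * 2 ^ (q - 1)) * uBar P U ≤ (p - 1) ^ q := by
      calc ((p - 1) * 2 ^ (q - 1)) * uBar P U ≤ ((p - 1) * 2 ^ (q - 1)) * a ^ (q - 1) :=
            Nat.mul_le_mul_left _ D.bound
        _ = (p - 1) * (2 * a) ^ (q - 1) := by rw [mul_pow]; ring
        _ ≤ (p - 1) * (p - 1) ^ (q - 1) := Nat.mul_le_mul_left _ (Nat.pow_le_pow_left h2a _)
        _ = (p - 1) ^ q := by rw [← pow_succ', ← hq1]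
    refine Nat.le_of_mul_le_mul_right ?_ hu0
    calc ((p - 1) * 2 ^ (q - 1)) * uBar P U * uBar P U ≤ (p - 1) ^ q * Nat.card U := Nat.mul_le_mul hA hu
      _ ≤ S.card * Nat.card U := Nat.mul_le_mul_right _ h2
      _ = Θ.card * uBar P U ^ 2 := hcount.symm
      _ = Θ.card * uBar P U * uBar P U := by ring
  have h3 : (p - 1) * 2 ^ (q - 1) ≤ Θ.card := Nat.le_of_mul_le_mul_right key hu0
  rw [Nat.mul_sub_one]
  omega

end IsLineSystem

end CfsgLib.OddOrder.S9b
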