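import Cfsg.Agent.Lib.OddOrder.S9b.Members
import Cfsg.Agent.Lib.CharTheory.TIKernel
import Cfsg.Agent.Lib.CharTheory.CoherenceDescend

/-!
Peterfalvi (9.8)-(9.9): the set `coreSet K P` of characters induced from the characters of `K` whose kernel misses `P`:
degrees, norms, conjugates, support.
-/

set_option autoImplicit false
set_option linter.unusedSectionVars false
set_option linter.style.haveILetI false

namespace CfsgLib.OddOrder.S9b

open Cfsg CfsgLib.CharTheory CfsgLib.OddOrder.Found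
open scoped ComplexConjugate commutatorElement

universe u

variable {L : Type u} [Group L] [Fintype L]

/-- The characters induced from the irreducible characters of `K` whose kernel misses `P`. -/
def coreSet (K P : Subgroup L) : Set (L → ℂ) :=
  {φ | ∃ θ : K → ℂ, IsIrrCharacter K θ ∧ (¬ ∀ z : K, (z : L) ∈ P → θ z = θ 1) ∧ φ = indFun K θ}

variable {K P U W₁ W₂ : Subgroup L} {p q : ℕ}

namespace CoreHyp

variable (h : CoreHyp K P U W₁ W₂ p q)
include h

theorem uBar_dvd_card : uBar P U ∣ Nat.card U := Dvd.intro _ h.uBar_mul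

theorem q_coprime_uBar : q.Coprime (uBar P U) :=
  (h.card_W₁ ▸ h.prime.coprime).coprime_dvd_right (h.uBar_dvd_card.trans (Subgroup.card_dvd_of_le h.U_le))

theorem uBar_pos : 0 < uBar P U := by
  have := h.uBar_mul
  rcases Nat.eq_zero_or_pos (uBar P U) with e | e
  · rw [e, zero_mul] at this; exact absurd this.symm Nat.card_pos.ne'
  · exact e

theorem uBar_odd : Odd (uBar P U) :=
  Odd.of_dvd_nat h.odd (h.uBar_dvd_card.trans U.card_subgroup_dvd_card)

theorem degIdx_pos [P.Normal] {α : P → ℂ} (hα : IsIrrCharacter P α) : 0 < degIdx K P α :=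
  Nat.pos_of_dvd_of_pos (h.degIdx_dvd hα) h.uBar_pos

/-- If the elements of `U` fixing `α ≠ 1` form a subgroup normalised by `U W₁`, or `P` is irreducible under `U`,
then they centralize `P`. -/
theorem inertia_inf_le [P.Normal] {α : P → ℂ} (hα : IsIrrCharacter P α) (hne : α ≠ fun _ => 1)
    (hnorm : W₁ ≤ Subgroup.normalizer ((inertia P α ⊓ U : Subgroup L) : Set L) ∨
      ∀ X : Subgroup L, X ≤ P → U ≤ Subgroup.normalizer (X : Set L) → X = ⊥ ∨ X = P) :
    inertia P α ⊓ U ≤ Subgroup.centralizer (P : Set L) := by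
  classical
  letI := Fintype.ofFinite P
  obtain ⟨a, ha⟩ := exists_hom_of_degree_one (isCharacter_of_irr hα) (h.alpha_one hα)
  set V := inertia P α ⊓ U with hV
  set X : Subgroup L := ⁅P, V⁆ with hX
  have hXP : X ≤ P := Subgroup.commutator_le.mpr fun z hz v _ => by
    rw [commutatorElement_def, mul_assoc z v z⁻¹, mul_assoc]
    exact P.mul_mem hz (h.P_normal.conj_mem _ (P.inv_mem hz) v)
  have hker : X ≤ (MonoidHom.ker a).map P.subtype := Subgroup.commutator_le.mpr fun z hz v hv => by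
    have hmem : v * z⁻¹ * v⁻¹ ∈ P := h.P_normal.conj_mem _ (P.inv_mem hz) v
    refine ⟨⟨z, hz⟩ * ⟨_, hmem⟩, ?_, by rw [commutatorElement_def]; simp [mul_assoc]⟩
    have h1 := congrFun ((mem_inertia P).mp (Subgroup.mem_inf.mp hv).1) (⟨z, hz⟩ : P)⁻¹
    have h2 : a (⟨_, hmem⟩ : P) = a (⟨z, hz⟩ : P)⁻¹ := by
      apply Units.ext
      exact (congrFun ha _).symm.trans (h1.trans (congrFun ha _))
    show _ = (1 : ℂˣ)
    rw [map_mul, h2, map_inv, mul_inv_cancel]
  have hne' : X ≠ P := fun e => hne (funext fun z => by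
    obtain ⟨w, hw, hwz⟩ := hker (e.ge z.2)
    rw [← P.subtype_injective hwz, ha]
    show ((a w : ℂˣ) : ℂ) = 1
    rw [MonoidHom.mem_ker.mp hw, Units.val_one])
  have hUn : ∀ g : L, (∀ v ∈ V, g * v * g⁻¹ ∈ V) → g ∈ Subgroup.normalizer (X : Set L) := by
    intro g hg
    refine Subgroup.mem_normalizer_iff.mpr ?_
    have hmap : X.map (MulAut.conj g).toMonoidHom ≤ X := by
      rw [hX, Subgroup.map_commutator]
      refine Subgroup.commutator_mono ?_ ?_
      · rintro _ ⟨z, hz, rfl⟩; exact h.P_normal.conj_mem z hz g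
      · rintro _ ⟨v, hv, rfl⟩; exact hg v hv
    have heq := Subgroup.eq_of_le_of_card_ge hmap
      (le_of_eq (Subgroup.card_map_of_injective (MulAut.conj g).injective).symm)
    intro x
    constructor
    · intro hx; exact heq.le ⟨x, hx, rfl⟩
    · intro hx
      obtain ⟨y, hy, hyx⟩ := heq.ge hx
      rwa [← (MulAut.conj g).injective hyx]
  have hU : U ≤ Subgroup.normalizer (X : Set L) := fun g hg => hUn g fun v hv => by
    rw [h.comm_U g hg v (Subgroup.mem_inf.mp hv).2, mul_inv_cancel_right]; exact hv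
  have hbot : X = ⊥ := by
    rcases hnorm with hW | hirr
    · exact (h.irred X hXP hU fun g hg => hUn g fun v hv =>
        (Subgroup.mem_normalizer_iff.mp (hW hg) v).mp hv).resolve_right hne'
    · exact (hirr X hXP hU).resolve_right hne'
  exact (Subgroup.commutator_eq_bot_iff_le_centralizer).mp ((Subgroup.commutator_comm _ _).trans hbot)

theorem degIdx_eq_uBar [P.Normal] {α : P → ℂ} (hα : IsIrrCharacter P α)
    (hle : inertia P α ⊓ U ≤ Subgroup.centralizer (P : Set L)) : degIdx K P α = uBar P U := by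
  refine Nat.eq_of_mul_eq_mul_right (Nat.card_pos (α := ↥(inertia P α ⊓ U))) ?_
  rw [h.degIdx_mul hα, show inertia P α ⊓ U = U ⊓ Subgroup.centralizer (P : Set L) from le_antisymm
    (le_inf inf_le_right hle) (le_inf (inf_le_right.trans (h.centralizer_le_inertia α)) inf_le_left), h.uBar_mul]

/-- The non-principal invariant characters of `K` have degree `u`. -/
theorem colChar_degree [P.Normal] {b : W₂ →* ℂˣ} (hb : b ≠ 1) : h.prime.colChar b 1 = (uBar P U : ℂ) := by
  classical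
  letI := Fintype.ofFinite P
  set θ := h.prime.colChar b with hθdef
  have hθ := h.prime.isIrr_colChar b
  have hk : ¬ ∀ z : K, (z : L) ∈ P → θ z = θ 1 := fun hk =>
    hb (h.prime.eq_one_of_kernel fun k hk' => hk k (h.W₂_le hk'))
  obtain ⟨α₀, hα₀, hne, ho⟩ := h.exists_ne_one_over hθ hk
  obtain ⟨w, hw, hw1⟩ := (Subgroup.bot_or_exists_ne_one W₁).resolve_left h.prime.ne_bot₁
  set O := h.orbit α₀ with hO
  have hmem : ∀ β ∈ O, IsIrrCharacter P β ∧ Over h.P_le θ β := fun β hβ => by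
    obtain ⟨k, hk, rfl⟩ := h.mem_orbit.mp hβ
    exact ⟨isIrr_conjNormFun P k hα₀, (h.over_iff hθ hα₀ (isIrr_conjNormFun P k hα₀) ho).mpr ⟨k, hk, rfl⟩⟩
  have hmap : ∀ β ∈ O, conjNormFun P w β ∈ O := fun β hβ => by
    obtain ⟨hβi, hβo⟩ := hmem β hβ
    have hinv : conjNormFun P w (fun z : P => θ ⟨z, h.P_le z.2⟩) = fun z : P => θ ⟨z, h.P_le z.2⟩ :=
      funext fun z => h.prime.colChar_invariant b w ⟨z, h.P_le z.2⟩
    have ho' : Over h.P_le θ (conjNormFun P w β) := by
      unfold Over at hβo ⊢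
      rw [← hinv, classInner_conjNormFun]; exact hβo
    exact h.mem_orbit.mpr ((h.over_iff hθ hα₀ (isIrr_conjNormFun P w hβi) ho).mp ho')
  let f : O → O := fun β => ⟨_, hmap β β.2⟩
  have hinj : Function.Injective f := fun β γ e => Subtype.ext (by
    have h1 := congrArg (conjNormFun P w⁻¹) (congrArg Subtype.val e)
    simp only [f, conjNormFun_inv] at h1
    exact h1)
  let σ : Equiv.Perm O := Equiv.ofBijective f hinj.bijective_of_finite
  have hpow : ∀ (n : ℕ) (β : O), ((σ ^ n) β : P → ℂ) = conjNormFun P (w ^ n) β := by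
    intro n
    induction n with
    | zero => intro β; simp [conjNormFun_one]
    | succ n ih =>
      intro β
      rw [pow_succ, Equiv.Perm.mul_apply, ih, pow_succ', conjNormFun_mul]
      rfl
  have hσ : σ ^ q ^ 1 = 1 := Equiv.ext fun β => Subtype.ext (by
    have hwq : w ^ q = 1 := by
      have : (⟨w, hw⟩ : W₁) ^ q = 1 := by rw [← h.card_W₁]; exact pow_card_eq_one'
      exact congrArg Subtype.val this
    rw [pow_one, hpow, hwq, conjNormFun_one]; rfl)
  haveI := Fact.mk h.hq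
  have hndvd : ¬ q ∣ Fintype.card O := by
    rw [Fintype.card_coe, hO, h.card_orbit]
    exact fun hd => h.hq.ne_one (Nat.eq_one_of_dvd_coprimes h.q_coprime_uBar dvd_rfl (hd.trans (h.degIdx_dvd hα₀)))
  obtain ⟨β, hβ⟩ := Equiv.Perm.exists_fixed_point_of_prime hndvd hσ
  obtain ⟨hβi, hβo⟩ := hmem β β.2
  have hfix : conjNormFun P w β = β := congrArg Subtype.val hβ
  refine (h.degree_of_over hθ hβi hβo).trans (congrArg Nat.cast ?_)
  refine h.degIdx_eq_uBar hβi (h.inertia_inf_le hβi ?_ (Or.inl ?_))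
  · intro e
    obtain ⟨k, hk, hkβ⟩ := h.mem_orbit.mp β.2
    refine hne ?_
    rw [← conjNormFun_inv P k α₀, hkβ, e]
    rfl
  · have hW : Subgroup.zpowers w = W₁ := Subgroup.eq_of_le_of_card_ge (Subgroup.zpowers_le.mpr hw) (by
      rw [h.card_W₁, Nat.card_zpowers]
      have := (Nat.dvd_prime h.hq).mp (h.card_W₁ ▸ Subgroup.orderOf_dvd_natCard W₁ hw)
      rcases this with e | e
      · exact absurd (orderOf_eq_one_iff.mp e) hw1
      · exact e.ge)
    rw [← hW, Subgroup.zpowers_le]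
    exact Subgroup.inf_normalizer_le_normalizer_inf
      ⟨Subgroup.le_normalizer ((mem_inertia P).mpr hfix), h.U_inv hw⟩

theorem coreSet_finite : (coreSet K P).Finite := by
  haveI := h.prime.normal
  refine (inducedIrrAbove_finite K ⊥).subset ?_
  rintro φ ⟨θ, hθ, hk, rfl⟩
  exact ⟨θ, hθ, fun e => hk fun z _ => by rw [e], fun a ha => by
    rw [Subgroup.mem_bot] at ha
    rw [show a = 1 from Subtype.ext ha], rfl⟩

theorem colChar_kernel {b : W₂ →* ℂˣ} (hb : b ≠ 1) :
    ¬ ∀ z : K, (z : L) ∈ P → h.prime.colChar b z = h.prime.colChar b 1 := fun hk =>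
  hb (h.prime.eq_one_of_kernel fun k hk' => hk k (h.W₂_le hk'))

/-- A member is an irreducible character or a column of exceptional characters. -/
theorem coreSet_cases [Fintype (W₁ →* ℂˣ)] {φ : L → ℂ} (hφ : φ ∈ coreSet K P) :
    (∃ b : W₂ →* ℂˣ, b ≠ 1 ∧ φ = h.prime.muSum b) ∨
    (IsIrrCharacter L φ ∧ ∃ θ, IsIrrCharacter K θ ∧ (¬ ∀ z : K, (z : L) ∈ P → θ z = θ 1) ∧
      (∀ b, θ ≠ h.prime.colChar b) ∧ φ = indFun K θ) := by
  obtain ⟨θ, hθ, hk, rfl⟩ := hφ
  by_cases hcol : ∃ b, θ = h.prime.colChar b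
  · obtain ⟨b, rfl⟩ := hcol
    refine Or.inl ⟨b, fun e => hk fun z _ => ?_, h.prime.indFun_colChar b⟩
    rw [e, h.prime.colChar_one]
  · push Not at hcol
    exact Or.inr ⟨h.prime.isIrr_indFun_of_ne hθ hcol, θ, hθ, hk, hcol, rfl⟩

theorem muSum_mem [Fintype (W₁ →* ℂˣ)] {b : W₂ →* ℂˣ} (hb : b ≠ 1) : h.prime.muSum b ∈ coreSet K P :=
  ⟨_, h.prime.isIrr_colChar b, h.colChar_kernel hb, (h.prime.indFun_colChar b).symm⟩

theorem coreSet_isCharacter {φ : L → ℂ} (hφ : φ ∈ coreSet K P) : IsCharacter L φ := by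
  obtain ⟨θ, hθ, -, rfl⟩ := hφ
  exact isCharacter_indFun K (isCharacter_of_irr hθ)

theorem coreSet_conj {φ : L → ℂ} (hφ : φ ∈ coreSet K P) : conjFun φ ∈ coreSet K P ∧ conjFun φ ≠ φ := by
  haveI := h.prime.normal
  haveI := Fintype.ofFinite K
  obtain ⟨θ, hθ, hk, rfl⟩ := hφ
  refine ⟨⟨conjFun θ, isIrrCharacter_conjChar hθ, fun hk' => hk fun z hz => ?_, (indFun_conjFun K θ).symm⟩,
    h.prime.indFun_conj_ne h.odd hθ fun e => hk fun z _ => by rw [e]⟩
  exact (starRingEnd ℂ).injective (hk' z hz)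

theorem coreSet_orthogonal {φ ψ : L → ℂ} (hφ : φ ∈ coreSet K P) (hψ : ψ ∈ coreSet K P) (hne : φ ≠ ψ) :
    classInner φ ψ = 0 := by
  haveI := h.prime.normal
  obtain ⟨θ, hθ, -, rfl⟩ := hφ
  obtain ⟨η, hη, -, rfl⟩ := hψ
  haveI := Fintype.ofFinite K
  refine indFun_orthogonal_of_not_conj K hθ hη fun ⟨g, hg⟩ => hne ?_
  rw [← hg, indFun_conjNormFun]

theorem coreSet_degree [P.Normal] {θ : K → ℂ} (hθ : IsIrrCharacter K θ)
    (hk : ¬ ∀ z : K, (z : L) ∈ P → θ z = θ 1) :
    ∃ d : ℕ, d ∣ uBar P U ∧ 0 < d ∧ θ 1 = (d : ℂ) ∧ indFun K θ 1 = ((q * d : ℕ) : ℂ) := by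
  obtain ⟨α, hα, -, ho⟩ := h.exists_ne_one_over hθ hk
  refine ⟨_, h.degIdx_dvd hα, h.degIdx_pos hα, h.degree_of_over hθ hα ho, ?_⟩
  rw [indFun_apply_one, h.degree_of_over hθ hα ho, h.prime.index_eq, h.card_W₁, Nat.cast_mul]

theorem muSum_apply_one [P.Normal] [Fintype (W₁ →* ℂˣ)] {b : W₂ →* ℂˣ} (hb : b ≠ 1) :
    h.prime.muSum b 1 = ((q * uBar P U : ℕ) : ℂ) := by
  rw [← h.prime.indFun_colChar, indFun_apply_one, h.colChar_degree hb, h.prime.index_eq, h.card_W₁, Nat.cast_mul]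

/-- A member of degree other than `q u` is irreducible. -/
theorem irr_of_degree_ne [P.Normal] {φ : L → ℂ} (hφ : φ ∈ coreSet K P)
    (hd : φ 1 ≠ ((q * uBar P U : ℕ) : ℂ)) : IsIrrCharacter L φ := by
  haveI := Fintype.ofFinite (W₁ →* ℂˣ)
  rcases h.coreSet_cases hφ with ⟨b, hb, rfl⟩ | ⟨hi, -⟩
  · exact absurd (h.muSum_apply_one hb) hd
  · exact hi

theorem coreSet_norm {φ : L → ℂ} (hφ : φ ∈ coreSet K P) :
    classInner φ φ = 1 ∨ (classInner φ φ = (q : ℂ) ∧ ¬ IsIrrCharacter L φ) := by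
  classical
  haveI := Fintype.ofFinite (W₁ →* ℂˣ)
  rcases h.coreSet_cases hφ with ⟨b, hb, rfl⟩ | ⟨hi, -⟩
  · have e : classInner (h.prime.muSum b) (h.prime.muSum b) = (q : ℂ) := by
      rw [h.prime.classInner_muSum, if_pos rfl, h.card_W₁]
    refine Or.inr ⟨e, fun hi => ?_⟩
    rw [classInner_irr_self hi] at e
    exact h.hq.ne_one (by exact_mod_cast e.symm)
  · exact Or.inl (classInner_irr_self hi)

/-- Members vanish outside `A ∪ {1}`. -/
theorem coreSet_support {φ : L → ℂ} (hφ : φ ∈ coreSet K P) {g : L}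
    (hg : ¬ (g ∈ K ∧ ∃ z ∈ P, z ≠ 1 ∧ z * g = g * z)) : φ g = 0 := by
  haveI := h.prime.normal
  haveI := h.P_normal
  haveI := Fintype.ofFinite K
  obtain ⟨θ, hθ, hk, rfl⟩ := hφ
  by_cases hgK : g ∈ K
  · have := indFun_normal_apply K θ ⟨g, hgK⟩
    refine this.trans ?_
    rw [Finset.sum_eq_zero fun x _ => ?_, mul_zero]
    refine apply_eq_zero_of_centralizer_inf (P.subgroupOf K) hθ (fun hk' => hk fun z hz =>
      hk' z (Subgroup.mem_subgroupOf.mpr hz)) fun n hn e => ?_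
    by_contra hn1
    have e' : (n : L) * (x * g * x⁻¹) = x * g * x⁻¹ * n := congrArg Subtype.val e
    refine hg ⟨hgK, x⁻¹ * n * x, by simpa using h.P_normal.conj_mem _ (Subgroup.mem_subgroupOf.mp hn) x⁻¹,
      fun e1 => hn1 (Subtype.ext ?_), ?_⟩
    · have : (n : L) = x * (x⁻¹ * n * x) * x⁻¹ := by group
      rw [this, e1]; simp
    · have := congrArg (fun y => x⁻¹ * y * x) e'
      simpa [mul_assoc] using this
  · exact indFun_normal_apply_not_mem K θ hgK

end CoreHyp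

end CfsgLib.OddOrder.S9b
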