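import Cfsg.Agent.Lib.OddOrder.Found.PrimeTI
import Cfsg.Agent.Lib.CharTheory.AbelianInertia
import Cfsg.Agent.Lib.CharTheory.Monomial

/-!
Peterfalvi (9.8)-(9.9): the irreducible characters of `K = P U` lying over a linear character of `P`, when `P` and
`U` are abelian.
-/

set_option autoImplicit false
set_option linter.unusedSectionVars false
set_option linter.style.haveILetI false

namespace CfsgLib.OddOrder.S9b

open Cfsg CfsgLib.CharTheory CfsgLib.OddOrder.Found
open scoped ComplexConjugate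

universe u

variable {L : Type u} [Group L]

/-- The hypothesis of the second half of section 9, for `H₀ = 1`: `L = (P U) W₁` with `P`, `U` abelian and `P`
irreducible under `U W₁`. -/
structure CoreHyp (K P U W₁ W₂ : Subgroup L) (p q : ℕ) : Prop where
  prime : IsPrimeTI K W₁ W₂
  odd : Odd (Nat.card L)
  P_normal : P.Normal
  P_le : P ≤ K
  U_le : U ≤ K
  W₂_le : W₂ ≤ P
  comm_P : ∀ a ∈ P, ∀ b ∈ P, a * b = b * a
  comm_U : ∀ a ∈ U, ∀ b ∈ U, a * b = b * a
  inf_PU : P ⊓ U = ⊥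
  sup_PU : P ⊔ U = K
  U_inv : W₁ ≤ Subgroup.normalizer (U : Set L)
  hp : p.Prime
  hq : q.Prime
  card_P : Nat.card P = p ^ q
  card_W₁ : Nat.card W₁ = q
  card_W₂ : Nat.card W₂ = p
  irred : ∀ X : Subgroup L, X ≤ P → U ≤ Subgroup.normalizer (X : Set L) → W₁ ≤ Subgroup.normalizer (X : Set L) →
    X = ⊥ ∨ X = P

/-- The order of `U` modulo the kernel of its action on `P`. -/
noncomputable def uBar (P U : Subgroup L) : ℕ := (U ⊓ Subgroup.centralizer (P : Set L)).relIndex U

variable [Fintype L] {K P U W₁ W₂ : Subgroup L} {p q : ℕ}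

/-- `θ` lies over `α`. -/
def Over (hPK : P ≤ K) (θ : K → ℂ) (α : P → ℂ) : Prop :=
  letI := Fintype.ofFinite P
  classInner (fun z : P => θ ⟨z, hPK z.2⟩) α ≠ 0

/-- The degree of the characters over `α`: the index of its inertia group in `K`. -/
noncomputable def degIdx (K P : Subgroup L) [P.Normal] (α : P → ℂ) : ℕ := (inertia P α).relIndex K

namespace CoreHyp

variable (h : CoreHyp K P U W₁ W₂ p q)
include h

theorem exists_factor {k : L} (hk : k ∈ K) : ∃ z ∈ P, ∃ x ∈ U, k = z * x := by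
  haveI := h.P_normal
  have hk' : k ∈ (↑(P ⊔ U) : Set L) := by rw [h.sup_PU]; exact hk
  rw [Subgroup.normal_mul] at hk'
  obtain ⟨z, hz, x, hx, rfl⟩ := hk'
  exact ⟨z, hz, x, hx, rfl⟩

theorem factor_unique {z z' x x' : L} (hz : z ∈ P) (hz' : z' ∈ P) (hx : x ∈ U) (hx' : x' ∈ U)
    (e : z * x = z' * x') : z = z' ∧ x = x' := by
  have h1 : z'⁻¹ * z = x' * x⁻¹ := by
    rw [eq_mul_inv_iff_mul_eq, mul_assoc, e]; group
  have h2 : z'⁻¹ * z ∈ P ⊓ U := Subgroup.mem_inf.mpr
    ⟨P.mul_mem (P.inv_mem hz') hz, h1 ▸ U.mul_mem hx' (U.inv_mem hx)⟩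
  rw [h.inf_PU, Subgroup.mem_bot, inv_mul_eq_one] at h2
  subst h2
  exact ⟨rfl, mul_left_cancel e⟩

theorem card_K : Nat.card K = Nat.card P * Nat.card U := by
  classical
  rw [← Nat.card_prod]
  refine (Nat.card_eq_of_bijective (fun y : P × U => (⟨y.1 * y.2, K.mul_mem (h.P_le y.1.2) (h.U_le y.2.2)⟩ : K))
    ⟨fun a b e => ?_, fun k => ?_⟩).symm
  · obtain ⟨e1, e2⟩ := h.factor_unique a.1.2 b.1.2 a.2.2 b.2.2 (congrArg Subtype.val e)
    exact Prod.ext (Subtype.ext e1) (Subtype.ext e2)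
  · obtain ⟨z, hz, x, hx, e⟩ := h.exists_factor k.2
    exact ⟨(⟨z, hz⟩, ⟨x, hx⟩), Subtype.ext e.symm⟩

theorem comm_P' (a b : P) : a * b = b * a := Subtype.ext (h.comm_P a a.2 b b.2)

theorem alpha_one [Fintype P] {α : P → ℂ} (hα : IsIrrCharacter P α) : α 1 = 1 :=
  degree_one_of_commutative h.comm_P' hα

theorem mem_of_commutator {a b : L} (ha : a ∈ K) (hb : b ∈ K) : a * b * a⁻¹ * b⁻¹ ∈ P := by
  haveI := h.P_normal
  obtain ⟨z, hz, x, hx, rfl⟩ := h.exists_factor ha
  obtain ⟨z', hz', x', hx', rfl⟩ := h.exists_factor hb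
  rw [← QuotientGroup.eq_one_iff]
  simp only [QuotientGroup.mk_mul, QuotientGroup.mk_inv, (QuotientGroup.eq_one_iff z).mpr hz,
    (QuotientGroup.eq_one_iff z').mpr hz', one_mul, mul_one]
  rw [← QuotientGroup.mk_inv, ← QuotientGroup.mk_inv, ← QuotientGroup.mk_mul, ← QuotientGroup.mk_mul,
    ← QuotientGroup.mk_mul, h.comm_U x hx x' hx', mul_inv_cancel_right, mul_inv_cancel, QuotientGroup.mk_one]

theorem P_le_inertia [P.Normal] {α : P → ℂ} (hα : IsIrrCharacter P α) : P ≤ inertia P α :=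
  le_inertia P (isClassFunction_irr hα)

/-- The inertia group in `K` splits. -/
theorem card_stab [P.Normal] {α : P → ℂ} (hα : IsIrrCharacter P α) :
    Nat.card ↥(inertia P α ⊓ K) = Nat.card P * Nat.card ↥(inertia P α ⊓ U) := by
  classical
  rw [← Nat.card_prod]
  refine (Nat.card_eq_of_bijective (fun y : P × ↥(inertia P α ⊓ U) => (⟨y.1 * y.2,
    Subgroup.mem_inf.mpr ⟨mul_mem (h.P_le_inertia hα y.1.2) (Subgroup.mem_inf.mp y.2.2).1,
      K.mul_mem (h.P_le y.1.2) (h.U_le (Subgroup.mem_inf.mp y.2.2).2)⟩⟩ : ↥(inertia P α ⊓ K)))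
    ⟨fun a b e => ?_, fun k => ?_⟩).symm
  · obtain ⟨e1, e2⟩ := h.factor_unique a.1.2 b.1.2 (Subgroup.mem_inf.mp a.2.2).2 (Subgroup.mem_inf.mp b.2.2).2
      (congrArg Subtype.val e)
    exact Prod.ext (Subtype.ext e1) (Subtype.ext e2)
  · obtain ⟨hkT, hkK⟩ := Subgroup.mem_inf.mp k.2
    obtain ⟨z, hz, x, hx, e⟩ := h.exists_factor hkK
    have hxT : x ∈ inertia P α := by
      rw [show x = z⁻¹ * (k : L) by rw [e]; group]
      exact mul_mem (inv_mem (h.P_le_inertia hα hz)) hkT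
    exact ⟨(⟨z, hz⟩, ⟨x, hxT, hx⟩), Subtype.ext e.symm⟩

theorem degIdx_mul [P.Normal] {α : P → ℂ} (hα : IsIrrCharacter P α) :
    degIdx K P α * Nat.card ↥(inertia P α ⊓ U) = Nat.card U := by
  have h1 := Subgroup.card_mul_index ((inertia P α).subgroupOf K)
  rw [Nat.card_congr (Subgroup.subgroupOf K (inertia P α ⊓ K) |> fun _ =>
    (((MulEquiv.subgroupCongr (Subgroup.inf_subgroupOf_right (inertia P α) K).symm).trans
      (Subgroup.subgroupOfEquivOfLe inf_le_right))).toEquiv), h.card_stab hα, h.card_K] at h1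
  refine Nat.eq_of_mul_eq_mul_left (Nat.card_pos (α := P)) ?_
  rw [← h1]
  show _ = _ * ((inertia P α).subgroupOf K).index
  rw [degIdx, Subgroup.relIndex]
  ring

/-- The conjugate of a character of `P` by an element centralizing `P` is itself. -/
theorem centralizer_le_inertia [P.Normal] (α : P → ℂ) : Subgroup.centralizer (P : Set L) ≤ inertia P α := by
  intro g hg
  rw [mem_inertia]
  funext z
  refine congrArg α (Subtype.ext ?_)
  show g * (z : L) * g⁻¹ = z
  rw [← Subgroup.mem_centralizer_iff.mp hg z z.2, mul_inv_cancel_right]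

theorem uBar_mul : uBar P U * Nat.card ↥(U ⊓ Subgroup.centralizer (P : Set L)) = Nat.card U := by
  have h1 := Subgroup.card_mul_index ((U ⊓ Subgroup.centralizer (P : Set L)).subgroupOf U)
  rw [Nat.card_congr (Subgroup.subgroupOfEquivOfLe inf_le_left).toEquiv] at h1
  rw [← h1, mul_comm]
  rfl

theorem degIdx_dvd [P.Normal] {α : P → ℂ} (hα : IsIrrCharacter P α) : degIdx K P α ∣ uBar P U := by
  have h1 := h.uBar_mul
  have h2 := h.degIdx_mul hα
  obtain ⟨k, hk⟩ := Subgroup.card_dvd_of_le (show U ⊓ Subgroup.centralizer (P : Set L) ≤ inertia P α ⊓ U from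
    le_inf (inf_le_right.trans (h.centralizer_le_inertia α)) inf_le_left)
  refine ⟨k, Nat.eq_of_mul_eq_mul_right (Nat.card_pos (α := ↥(U ⊓ Subgroup.centralizer (P : Set L)))) ?_⟩
  rw [h1, ← h2, hk]
  ring

/-- **The characters over `α`.** -/
theorem exists_over [P.Normal] [Fintype P] [Fintype K] {α : P → ℂ} (hα : IsIrrCharacter P α) :
    ∃ C : Finset (K → ℂ), (∀ θ ∈ C, IsIrrCharacter K θ ∧ θ 1 = (degIdx K P α : ℂ)) ∧
      C.card * degIdx K P α = Nat.card U ∧ ∀ θ, IsIrrCharacter K θ → (θ ∈ C ↔ Over h.P_le θ α) := by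
  classical
  haveI := Fintype.ofFinite (P.subgroupOf K)
  set N := P.subgroupOf K with hN
  set α' : N → ℂ := fun x => α ⟨((x : K) : L), Subgroup.mem_subgroupOf.mp x.2⟩ with hα'
  have hαirr : IsIrrCharacter N α' := isIrr_subgroupOf P h.P_le hα
  set T := (inertia P α).subgroupOf K with hTdef
  have hT : T = inertia N α' := by
    ext k
    rw [mem_inertia, hTdef, Subgroup.mem_subgroupOf, mem_inertia]
    constructor
    · intro e; funext x
      exact congrFun e ⟨((x : K) : L), Subgroup.mem_subgroupOf.mp x.2⟩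
    · intro e; funext z
      exact congrFun e ⟨⟨z, h.P_le z.2⟩, Subgroup.mem_subgroupOf.mpr z.2⟩
  haveI := Fintype.ofFinite T
  have hab : ∀ x ∈ T, ∀ y ∈ T, x * y * x⁻¹ * y⁻¹ ∈ N := fun x _ y _ =>
    Subgroup.mem_subgroupOf.mpr (h.mem_of_commutator x.2 y.2)
  obtain ⟨e, C, -, hC, hcard, hind, hdeg, hext⟩ := exists_constituents_inertia N T hαirr hT hab
  -- a linear extension
  obtain ⟨a, ha⟩ := exists_hom_of_degree_one (isCharacter_of_irr hα) (h.alpha_one hα)
  have hfac : ∀ t : T, ∃ y : P × ↥(inertia P α ⊓ U), ((t : K) : L) = y.1 * y.2 := fun t => by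
    obtain ⟨z, hz, x, hx, e'⟩ := h.exists_factor (t : K).2
    refine ⟨(⟨z, hz⟩, ⟨x, ?_, hx⟩), e'⟩
    rw [show x = z⁻¹ * ((t : K) : L) by rw [e']; group]
    exact (inertia P α).mul_mem ((inertia P α).inv_mem (h.P_le_inertia hα hz)) (Subgroup.mem_subgroupOf.mp t.2)
  choose y hy using hfac
  have hy' : ∀ (t : T) (z : P) (x : ↥(inertia P α ⊓ U)), ((t : K) : L) = z * x → (y t).1 = z := fun t z x e' =>
    Subtype.ext (h.factor_unique (y t).1.2 z.2 (y t).2.2.2 x.2.2 ((hy t).symm.trans e')).1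
  let ψ : T →* ℂˣ :=
    { toFun := fun t => a (y t).1
      map_one' := by rw [hy' 1 1 1 (by simp), map_one]
      map_mul' := fun s t => by
        have hconj : ((y s).2 : L) * (y t).1 * ((y s).2 : L)⁻¹ ∈ P := h.P_normal.conj_mem _ (y t).1.2 _
        have key := hy' (s * t) ((y s).1 * ⟨_, hconj⟩) ((y s).2 * (y t).2) (by
          simp only [Subgroup.coe_mul]
          rw [hy s, hy t]; group)
        rw [key, map_mul]
        congr 1
        have h1 := congrFun ((mem_inertia P).mp (y s).2.2.1) (y t).1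
        exact Units.ext ((congrFun ha _).symm.trans (h1.trans (congrFun ha _))) }
  have he : e = 1 := hext ⟨fun t => (ψ t : ℂ), by rw [hT]; exact le_inertia N (isClassFunction_irr hαirr),
    isIrrCharacter_linear ψ, fun n => by
      show (a (y _).1 : ℂ) = α _
      rw [hy' _ ⟨((n : K) : L), Subgroup.mem_subgroupOf.mp n.2⟩ 1 (by simp), ha]⟩
  subst he
  have hα1 : α' 1 = 1 := by
    show α _ = 1
    rw [← h.alpha_one hα]
    rfl
  have hdegC : ∀ θ ∈ C, IsIrrCharacter K θ ∧ θ 1 = (degIdx K P α : ℂ) := fun θ hθ => ⟨hC θ hθ, by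
    rw [hdeg θ hθ, hα1, Nat.cast_one, mul_one, mul_one]; rfl⟩
  refine ⟨C, hdegC, ?_, fun θ hθ => ?_⟩
  · rw [one_pow, one_mul] at hcard
    rw [hcard]
    show N.relIndex T * T.index = _
    rw [Subgroup.relIndex_mul_index (hT ▸ le_inertia N (isClassFunction_irr hαirr))]
    refine Nat.eq_of_mul_eq_mul_left (Nat.card_pos (α := P)) ?_
    rw [← h.card_K, ← Subgroup.card_mul_index N, hN, Nat.card_congr (Subgroup.subgroupOfEquivOfLe h.P_le).toEquiv]
  · have h1 : classInner (fun x : N => θ x) α' = classInner (fun z : P => θ ⟨z, h.P_le z.2⟩) α :=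
      classInner_subgroupOf P h.P_le θ α
    have h2 : classInner (indFun N α') θ = if θ ∈ C then 1 else 0 := by
      rw [hind, Nat.cast_one, one_smul, classInner_sum_left]
      split_ifs with hmem
      · rw [Finset.sum_eq_single θ (fun b hb hne => classInner_irr_ne (hC b hb) hθ hne)
          (fun hn => absurd hmem hn), classInner_irr_self hθ]
      · exact Finset.sum_eq_zero fun b hb => classInner_irr_ne (hC b hb) hθ fun e' => hmem (e' ▸ hb)
    rw [frobenius_reciprocity N α' (isClassFunction_irr hθ), ← classInner_comm, h1] at h2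
    unfold Over
    rw [show (Fintype.ofFinite P) = (inferInstance : Fintype P) from Subsingleton.elim _ _]
    constructor
    · intro hmem e'
      rw [if_pos hmem, e', map_zero] at h2
      exact zero_ne_one h2
    · intro hne
      by_contra hmem
      rw [if_neg hmem, map_eq_zero] at h2
      exact hne h2

theorem degree_of_over [P.Normal] {θ : K → ℂ} (hθ : IsIrrCharacter K θ) {α : P → ℂ} (hα : IsIrrCharacter P α)
    (ho : Over h.P_le θ α) : θ 1 = (degIdx K P α : ℂ) := by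
  letI := Fintype.ofFinite P
  haveI := Fintype.ofFinite K
  obtain ⟨C, hC, -, hmem⟩ := h.exists_over hα
  exact (hC θ ((hmem θ hθ).mpr ho)).2

/-- A character whose kernel misses `P` lies over a non-principal character of `P`. -/
theorem exists_ne_one_over [P.Normal] {θ : K → ℂ} (hθ : IsIrrCharacter K θ)
    (hk : ¬ ∀ z : K, (z : L) ∈ P → θ z = θ 1) :
    ∃ α : P → ℂ, IsIrrCharacter P α ∧ α ≠ (fun _ => 1) ∧ Over h.P_le θ α := by
  classical
  letI := Fintype.ofFinite P
  haveI := Fintype.ofFinite K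
  haveI := Fintype.ofFinite (P.subgroupOf K)
  have hres : IsCharacter P (fun z : P => θ ⟨z, h.P_le z.2⟩) :=
    isCharacter_comp (isCharacter_of_irr hθ) (Subgroup.inclusion h.P_le)
  obtain ⟨α, hα, hne⟩ := exists_constituent hres (fun e => irr_ne_zero hθ (congrFun e 1))
  refine ⟨α, hα, fun e => hk fun z hz => ?_, by unfold Over; exact hne⟩
  have hne' : classInner (fun x : P.subgroupOf K => θ x)
      (fun x => α ⟨((x : K) : L), Subgroup.mem_subgroupOf.mp x.2⟩) ≠ 0 := by
    rw [classInner_subgroupOf P h.P_le θ α]; exact hne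
  have h1 := clifford_invariant (P.subgroupOf K) hθ (isIrr_subgroupOf P h.P_le hα) hne' fun g => by
    subst e; rfl
  have e1 := congrFun h1 ⟨z, Subgroup.mem_subgroupOf.mpr hz⟩
  have e2 := congrFun h1 1
  subst e
  exact e1.trans e2.symm

/-- The characters of `P` below a character of `K` form one orbit of `K`. -/
theorem over_iff [P.Normal] {θ : K → ℂ} (hθ : IsIrrCharacter K θ) {α β : P → ℂ} (hα : IsIrrCharacter P α)
    (hβ : IsIrrCharacter P β) (ho : Over h.P_le θ α) :
    Over h.P_le θ β ↔ ∃ k ∈ K, conjNormFun P k α = β := by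
  classical
  haveI := Fintype.ofFinite K
  haveI := Fintype.ofFinite (P.subgroupOf K)
  letI := Fintype.ofFinite P
  unfold Over at ho ⊢
  constructor
  · intro hb
    rw [← classInner_subgroupOf P h.P_le θ] at ho hb
    obtain ⟨k, hk⟩ := exists_conj_of_constituents (P.subgroupOf K) hθ (isIrr_subgroupOf P h.P_le hα)
      (isIrr_subgroupOf P h.P_le hβ) ho hb
    exact ⟨k, k.2, funext fun z => congrFun hk ⟨⟨z, h.P_le z.2⟩, Subgroup.mem_subgroupOf.mpr z.2⟩⟩
  · rintro ⟨k, hk, rfl⟩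
    have : conjNormFun P k (fun z : P => θ ⟨z, h.P_le z.2⟩) = fun z : P => θ ⟨z, h.P_le z.2⟩ := by
      funext z
      exact isClassFunction_irr hθ ⟨z, h.P_le z.2⟩ ⟨k, hk⟩
    rw [← this, classInner_conjNormFun]
    exact ho

open Classical in
/-- The orbit of a character of `P` under `K`. -/
noncomputable def orbit [P.Normal] (_h : CoreHyp K P U W₁ W₂ p q) (α : P → ℂ) : Finset (P → ℂ) :=
  Finset.univ.image fun k : K => conjNormFun P (k : L) α

theorem mem_orbit [P.Normal] {α β : P → ℂ} : β ∈ h.orbit α ↔ ∃ k ∈ K, conjNormFun P k α = β := by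
  classical
  simp [orbit]

theorem card_orbit [P.Normal] (α : P → ℂ) : (h.orbit α).card = degIdx K P α := by
  classical
  haveI : Fintype K := Fintype.ofFinite K
  let f : (P → ℂ) → (P.subgroupOf K → ℂ) := fun β x => β ⟨((x : K) : L), Subgroup.mem_subgroupOf.mp x.2⟩
  have hf : Function.Injective f := fun β γ e => funext fun z =>
    congrFun e ⟨⟨z, h.P_le z.2⟩, Subgroup.mem_subgroupOf.mpr z.2⟩
  have e1 : (h.orbit α).image f = conjOrbit (P.subgroupOf K) (f α) := by
    ext γ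
    rw [Finset.mem_image, mem_conjOrbit]
    constructor
    · rintro ⟨β, hβ, rfl⟩
      obtain ⟨k, hk, rfl⟩ := h.mem_orbit.mp hβ
      exact ⟨⟨k, hk⟩, rfl⟩
    · rintro ⟨k, rfl⟩
      exact ⟨_, h.mem_orbit.mpr ⟨k, k.2, rfl⟩, rfl⟩
  rw [← Finset.card_image_of_injective _ hf, e1, card_conjOrbit, degIdx, Subgroup.relIndex]
  congr 1
  ext k
  rw [Subgroup.mem_subgroupOf, mem_inertia, mem_inertia]
  exact ⟨fun e => hf e, fun e => congrArg f e⟩

/-- **Counting**: the characters over a stable set of characters of `P` with constant degree. -/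
theorem card_over_mul [P.Normal] (S : Finset (P → ℂ)) (Θ : Finset (K → ℂ)) {d : ℕ}
    (hirr : ∀ α ∈ S, IsIrrCharacter P α) (hstab : ∀ α ∈ S, ∀ k ∈ K, conjNormFun P k α ∈ S)
    (hd : ∀ α ∈ S, degIdx K P α = d)
    (hΘ : ∀ θ, θ ∈ Θ ↔ IsIrrCharacter K θ ∧ ∃ α ∈ S, Over h.P_le θ α) :
    Θ.card * d ^ 2 = S.card * Nat.card U := by
  classical
  letI := Fintype.ofFinite P
  haveI := Fintype.ofFinite K
  have h1 : ∀ α ∈ S, (Θ.filter fun θ => Over h.P_le θ α).card * d = Nat.card U := fun α hα => by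
    obtain ⟨C, hC, hcard, hmem⟩ := h.exists_over (hirr α hα)
    rw [← hd α hα, ← hcard]
    congr 2
    ext θ
    rw [Finset.mem_filter, hΘ]
    exact ⟨fun ⟨⟨a, _⟩, b⟩ => (hmem θ a).mpr b, fun hθ =>
      ⟨⟨(hC θ hθ).1, α, hα, (hmem θ (hC θ hθ).1).mp hθ⟩, (hmem θ (hC θ hθ).1).mp hθ⟩⟩
  have h2 : ∀ θ ∈ Θ, (S.filter fun α => Over h.P_le θ α).card = d := fun θ hθ => by
    obtain ⟨hθi, α, hα, ho⟩ := (hΘ θ).mp hθ
    rw [← hd α hα, ← h.card_orbit α]
    congr 1
    ext β
    rw [Finset.mem_filter, h.mem_orbit]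
    refine ⟨fun ⟨hb, hb'⟩ => (h.over_iff hθi (hirr α hα) (hirr β hb) ho).mp hb', ?_⟩
    rintro ⟨k, hk, rfl⟩
    exact ⟨hstab α hα k hk, (h.over_iff hθi (hirr α hα) (hirr _ (hstab α hα k hk)) ho).mpr ⟨k, hk, rfl⟩⟩
  have h3 : ∑ θ ∈ Θ, (S.filter fun α => Over h.P_le θ α).card = ∑ α ∈ S, (Θ.filter fun θ => Over h.P_le θ α).card := by
    simp only [Finset.card_filter]
    exact Finset.sum_comm
  rw [Finset.sum_congr rfl h2, Finset.sum_const, smul_eq_mul] at h3
  calc Θ.card * d ^ 2 = (Θ.card * d) * d := by ring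
    _ = (∑ α ∈ S, (Θ.filter fun θ => Over h.P_le θ α).card) * d := by rw [h3]
    _ = ∑ α ∈ S, Nat.card U := by rw [Finset.sum_mul]; exact Finset.sum_congr rfl h1
    _ = S.card * Nat.card U := by rw [Finset.sum_const, smul_eq_mul]

end CoreHyp

end CfsgLib.OddOrder.S9b
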