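import Cfsg.Agent.Lib.OddOrder.S9b.Counting

/-!
Peterfalvi (9.11): the test function `Ind_J^L 1 - ξ₀` for `J = P C₀`, `ξ₀` a member of degree `q a`.
-/

set_option autoImplicit false
set_option linter.unusedSectionVars false
set_option linter.style.haveILetI false

namespace CfsgLib.OddOrder.S9b

open Cfsg CfsgLib.CharTheory CfsgLib.OddOrder.Found
open scoped ComplexConjugate

universe u

variable {L : Type u} [Group L] [Fintype L] {K P U W₁ W₂ : Subgroup L} {p q : ℕ}

namespace CoreHyp

variable (h : CoreHyp K P U W₁ W₂ p q)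
include h

/-- No member has a constituent trivial on `P`. -/
theorem coreSet_res_P [Fintype P] {φ : L → ℂ} (hφ : φ ∈ coreSet K P) :
    classInner (fun z : P => φ z) (fun _ => (1 : ℂ)) = 0 := by
  classical
  haveI := h.prime.normal
  haveI := h.P_normal
  haveI := Fintype.ofFinite K
  obtain ⟨θ, hθ, hk, rfl⟩ := hφ
  have e : (fun z : P => indFun K θ z) =
      (Nat.card K : ℂ)⁻¹ • ∑ x : L, fun z : P => conjNormFun K x θ ⟨z, h.P_le z.2⟩ := by
    funext z
    have := congrFun (indFun_res_eq_sum_conj K θ) ⟨z, h.P_le z.2⟩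
    simp only [Pi.smul_apply, Finset.sum_apply] at this ⊢
    exact this
  rw [e, classInner_smul_left, classInner_sum_left, Finset.sum_eq_zero fun x _ => ?_, mul_zero]
  have hθx := isIrr_conjNormFun K x hθ
  have hkx : ¬ ∀ z : K, (z : L) ∈ P → conjNormFun K x θ z = conjNormFun K x θ 1 := fun hk' => hk fun z hz => by
    have hz' : x⁻¹ * z * x ∈ P := by simpa using h.P_normal.conj_mem _ hz x⁻¹
    have e1 := hk' ⟨x⁻¹ * z * x, h.P_le hz'⟩ hz'
    rw [conjNormFun_apply_one] at e1
    rw [← e1]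
    exact congrArg θ (Subtype.ext (by show (z : L) = x * (x⁻¹ * z * x) * x⁻¹; group))
  obtain ⟨α, hα, hne, ho⟩ := h.exists_ne_one_over hθx hkx
  by_contra hbad
  have ho1 : Over h.P_le (conjNormFun K x θ) (fun _ : P => (1 : ℂ)) := by
    unfold Over
    rw [show (Fintype.ofFinite P) = (inferInstance : Fintype P) from Subsingleton.elim _ _]
    exact hbad
  obtain ⟨k, -, hk'⟩ := (h.over_iff hθx isIrrCharacter_one hα ho1).mp ho
  exact hne hk'.symm

theorem classInner_ind_one {J : Subgroup L} [Fintype J] (hPJ : P ≤ J) {φ : L → ℂ} (hφ : φ ∈ coreSet K P) :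
    classInner (indFun J fun _ => (1 : ℂ)) φ = 0 := by
  classical
  haveI := Fintype.ofFinite P
  have hφc := h.coreSet_isCharacter hφ
  rw [frobenius_reciprocity J _ (isClassFunction_char hφc), ← classInner_comm, map_eq_zero]
  by_contra hne
  have hres : IsCharacter J (fun x : J => φ x) := isCharacter_restrict hφc J
  have hsub := isCharacter_sub_irr hres isIrrCharacter_one hne
  have hsubP := isCharacter_comp hsub (Subgroup.inclusion hPJ)
  obtain ⟨n, hn⟩ := classInner_char_nat hsubP (isCharacter_one (G := P))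
  have e : classInner (fun z : P => φ z) (fun _ => (1 : ℂ)) = (n : ℂ) + 1 := by
    have h1 := classInner_irr_self (isIrrCharacter_one (G := P))
    rw [← hn]
    refine Eq.trans ?_ (congrArg (fun t : ℂ => classInner _ (fun _ : P => (1 : ℂ)) + t) h1)
    rw [← classInner_add_left]
    congr 1
    funext z
    simp
  rw [h.coreSet_res_P hφ] at e
  exact Nat.succ_ne_zero n (Nat.cast_eq_zero.mp (by push_cast; exact e.symm))

end CoreHyp

namespace IsLineSystem

variable {a : ℕ} {ℓ : Fin q → Subgroup L} (D : IsLineSystem P U W₁ p q ℓ a) (h : CoreHyp K P U W₁ W₂ p q)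
include D h

theorem exists_single [P.Normal] [Fintype P] :
    ∃ (α : P → ℂ) (i : Fin q), IsIrrCharacter P α ∧ OnLine ℓ α i ∧ ∀ j, OnLine ℓ α j → j = i := by
  have h1 := D.card_single_ge h
  have h2 : 0 < (withSupport (P := P) ℓ fun s => ∃! i, s i).card :=
    lt_of_lt_of_le (Nat.mul_pos h.hq.pos (by have := h.hp.two_le; omega)) h1
  obtain ⟨α, hα⟩ := Finset.card_pos.mp h2
  obtain ⟨hi, i, hi', huniq⟩ := (D.mem_withSupport h).mp hα
  exact ⟨α, i, hi, hi', huniq⟩

/-- **(9.11)** The test function. -/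
theorem exists_test [P.Normal] (hau : a ≠ uBar P U) :
    ∃ ξ₀ ∈ h.ofDegree a, ∃ φ : L → ℂ, IsGeneralizedCharacter L φ ∧ φ 1 = 0 ∧
      (∀ g, ¬ (g ∈ K ∧ ∃ z ∈ P, z ≠ 1 ∧ z * g = g * z) → φ g = 0) ∧
      (∀ χ ∈ coreSet K P, classInner φ χ = -classInner ξ₀ χ) ∧
      ∃ r : ℝ, classInner φ φ = (r : ℂ) ∧ 3 * r ≤ 3 + 3 * a + (q - 1 : ℕ) * a := by
  classical
  haveI := Fintype.ofFinite P
  haveI := Fintype.ofFinite K
  haveI := h.prime.normal
  obtain ⟨α, i, hα, hi, hone⟩ := D.exists_single h
  have hα1 : α ≠ fun _ => 1 := D.single_ne_one h ⟨i, hi, hone⟩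
  have hdeg := D.degIdx_single h hα hi hone
  have hna := D.not_normal_single h hα hi hone hau
  -- a member over `α`
  obtain ⟨C, hC, hcard, hmem⟩ := h.exists_over hα
  obtain ⟨θ₀, hθ₀⟩ : C.Nonempty := Finset.card_pos.mp (Nat.pos_of_mul_pos_right (hcard.ge.trans' Nat.card_pos))
  have ho := (hmem θ₀ (hC θ₀ hθ₀).1).mp hθ₀
  have hθker := h.not_kernel_of_over (hC θ₀ hθ₀).1 hα hα1 ho
  set ξ₀ := indFun K θ₀ with hξ₀
  have hξmem : ξ₀ ∈ coreSet K P := ⟨θ₀, (hC θ₀ hθ₀).1, hθker, rfl⟩
  have hξdeg : ξ₀ 1 = ((q * a : ℕ) : ℂ) := by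
    rw [hξ₀, indFun_apply_one, (hC θ₀ hθ₀).2, hdeg, h.prime.index_eq, h.card_W₁, Nat.cast_mul]
  have hξirr : IsIrrCharacter L ξ₀ := h.irr_of_degree_ne hξmem fun e => hau (by
    rw [hξdeg, Nat.cast_inj] at e
    exact Nat.eq_of_mul_eq_mul_left h.hq.pos e)
  -- `J`
  set J := inertia P α ⊓ K with hJ
  haveI : Fintype J := Fintype.ofFinite J
  have hPJ : P ≤ J := le_inf (h.P_le_inertia hα) h.P_le
  have hJK : J ≤ K := inf_le_right
  have hcardK : Nat.card K = a * Nat.card J := by
    rw [hJ, h.card_stab hα, h.card_K, ← hdeg, ← h.degIdx_mul hα]; ring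
  have hidx : J.index = q * a := by
    have e1 := Subgroup.card_mul_index J
    have e2 : Nat.card L = q * Nat.card K := by
      rw [← h.card_W₁, ← h.prime.compl.card_mul_card]
    rw [e2, hcardK, ← mul_assoc, mul_comm (q * a)] at e1
    exact Nat.eq_of_mul_eq_mul_left Nat.card_pos e1
  have hJnK : K ≤ Subgroup.normalizer (J : Set L) := fun k hk => by
    refine Subgroup.mem_normalizer_iff.mpr fun x => ?_
    constructor
    · intro hx
      have := J.mul_mem (hPJ (h.mem_of_commutator hk (hJK hx))) hx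
      simpa using this
    · intro hx
      have hxK : x ∈ K := by
        have := K.mul_mem (K.mul_mem (K.inv_mem hk) (hJK hx)) hk
        simpa [mul_assoc] using this
      have := J.mul_mem (J.inv_mem (hPJ (h.mem_of_commutator hk hxK))) hx
      simpa [mul_assoc] using this
  have hJN : ∀ x : L, x ∉ K → x ∉ Subgroup.normalizer (J : Set L) := fun x hx hxN => by
    set N := Subgroup.normalizer (J : Set L) with hN
    have hKN : K < N := lt_of_le_of_ne hJnK fun e => hx (e ▸ hxN)
    have hidxK : K.index = q := by rw [h.prime.index_eq, h.card_W₁]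
    have h1 := Subgroup.relIndex_mul_index hKN.le
    rw [hidxK] at h1
    have hNtop : N = ⊤ := by
      rcases (Nat.dvd_prime h.hq).mp (Dvd.intro_left _ h1) with e | e
      · exact Subgroup.index_eq_one.mp e
      · exfalso
        rw [e] at h1
        have : K.relIndex N = 1 := Nat.eq_of_mul_eq_mul_right h.hq.pos (h1.trans (one_mul q).symm)
        exact hKN.not_ge (Subgroup.relIndex_eq_one.mp this)
    refine hna fun w hw => ?_
    have hwJ : w ∈ Subgroup.normalizer (J : Set L) := by
      rw [← hN, hNtop]; trivial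
    have e : inertia P α ⊓ U = J ⊓ U := by
      rw [hJ, inf_assoc, inf_eq_right.mpr h.U_le]
    rw [e]
    exact Subgroup.inf_normalizer_le_normalizer_inf ⟨hwJ, h.U_inv hw⟩
  -- the count of fixed elements
  have hsmall : ∀ x : L, x ∉ K → 3 * (Finset.univ.filter fun j : J => x⁻¹ * j * x ∈ J).card ≤ Nat.card J := by
    intro x hx
    set J' : Subgroup L := J ⊓ J.map (MulAut.conj x).toMonoidHom with hJ'
    have hcardJ' : (Finset.univ.filter fun j : J => x⁻¹ * j * x ∈ J).card = Nat.card J' := by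
      rw [← Fintype.card_subtype, ← Nat.card_eq_fintype_card]
      refine Nat.card_congr
        { toFun := fun j => ⟨(j : J), (j : J).2, x⁻¹ * (j : J) * x, j.2, by simp [mul_assoc]⟩
          invFun := fun y => ⟨⟨y, y.2.1⟩, ?_⟩
          left_inv := fun _ => rfl
          right_inv := fun _ => rfl }
      obtain ⟨z, hz, hzy⟩ := y.2.2
      show x⁻¹ * (y : L) * x ∈ J
      rw [← hzy]
      simpa [mul_assoc] using hz
    obtain ⟨k, hk⟩ := Subgroup.card_dvd_of_le (inf_le_left : J' ≤ J)
    have hodd : Odd k := Odd.of_dvd_nat h.odd ((Dvd.intro_left _ hk.symm).trans (Subgroup.card_subgroup_dvd_card J))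
    have hk1 : k ≠ 1 := fun e => by
      rw [e, mul_one] at hk
      have hJJ' : J' = J := Subgroup.eq_of_le_of_card_ge inf_le_left hk.le
      have hle : J ≤ J.map (MulAut.conj x).toMonoidHom := fun y hy => (Subgroup.mem_inf.mp (hJJ'.ge hy)).2
      have heq := Subgroup.eq_of_le_of_card_ge hle
        (le_of_eq (Subgroup.card_map_of_injective (MulAut.conj x).injective))
      refine hJN x hx (Subgroup.mem_normalizer_iff.mpr fun y => ⟨fun hy => heq.ge ⟨y, hy, rfl⟩, fun hy => ?_⟩)
      obtain ⟨z, hz, hzy⟩ := heq.le hy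
      rwa [← (MulAut.conj x).injective hzy]
    obtain ⟨m, rfl⟩ := hodd
    rw [hcardJ', hk]
    calc 3 * Nat.card J' = Nat.card J' * 3 := mul_comm _ _
      _ ≤ Nat.card J' * (2 * m + 1) := Nat.mul_le_mul_left _ (by omega)
  -- norm of the induced principal character
  set f := indFun J (fun _ => (1 : ℂ)) with hf
  have hfchar : IsCharacter L f := isCharacter_indFun J isCharacter_one
  set M : ℕ := ∑ x : L, (Finset.univ.filter fun j : J => x⁻¹ * j * x ∈ J).card with hM
  have hff : (Nat.card J : ℂ) ^ 2 * classInner f f = (M : ℂ) := by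
    have hfre : classInner f f = (Nat.card J : ℂ)⁻¹ * ∑ j : J, (starRingEnd ℂ) (f j) := by
      rw [hf, frobenius_reciprocity J _ (indFun_isClassFunction J _)]
      simp [classInner]
    have hval : ∀ j : J, (starRingEnd ℂ) (f j) =
        (Nat.card J : ℂ)⁻¹ * ∑ x : L, if x⁻¹ * (j : L) * x ∈ J then (1 : ℂ) else 0 := fun j => by
      rw [hf]
      simp only [indFun, map_mul, map_inv₀, map_natCast, map_sum]
      congr 1
      refine Finset.sum_congr rfl fun x _ => ?_
      by_cases hx : x⁻¹ * (j : L) * x ∈ J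
      · rw [if_pos hx, extendByZero_of_mem J _ hx, map_one]
      · rw [if_neg hx, extendByZero_of_not_mem J _ hx, map_zero]
    have hJ0 : (Nat.card J : ℂ) ≠ 0 := Nat.cast_ne_zero.mpr Nat.card_pos.ne'
    rw [hfre, Finset.sum_congr rfl fun j _ => hval j, ← Finset.mul_sum, Finset.sum_comm, hM]
    push_cast
    simp only [Finset.sum_boole]
    field_simp
  have hMle : 3 * M ≤ Nat.card J ^ 2 * (3 * a + (q - 1) * a) := by
    have hsum : 3 * M ≤ ∑ x : L, if x ∈ K then 3 * Nat.card J else Nat.card J := by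
      rw [hM, Finset.mul_sum]
      refine Finset.sum_le_sum fun x _ => ?_
      by_cases hx : x ∈ K
      · rw [if_pos hx, Nat.card_eq_fintype_card]
        exact Nat.mul_le_mul_left 3 (Finset.card_le_univ _)
      · rw [if_neg hx]; exact hsmall x hx
    refine hsum.trans (le_of_eq ?_)
    rw [Finset.sum_ite, Finset.sum_const, Finset.sum_const, smul_eq_mul, smul_eq_mul]
    have hK' : (Finset.univ.filter fun x : L => x ∈ K).card = Nat.card K := by
      rw [← Fintype.card_subtype, Nat.card_eq_fintype_card]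
    have hK'' : (Finset.univ.filter fun x : L => ¬ x ∈ K).card = (q - 1) * Nat.card K := by
      have e := Finset.card_filter_add_card_filter_not (s := (Finset.univ : Finset L)) (fun x : L => x ∈ K)
      rw [hK', Finset.card_univ, ← Nat.card_eq_fintype_card (α := L), ← h.prime.compl.card_mul_card, h.card_W₁] at e
      rw [Nat.sub_one_mul]
      omega
    rw [hK', hK'', hcardK]
    ring
  refine ⟨ξ₀, h.mem_ofDegree.mpr ⟨hξmem, hξdeg⟩, f - ξ₀,
    isGenChar_sub (isGenChar_of_char hfchar) (isGenChar_of_char (isCharacter_of_irr hξirr)), ?_, fun g hg => ?_,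
    fun χ hχ => ?_, (classInner f f).re + 1, ?_, ?_⟩
  · rw [Pi.sub_apply, hf, indFun_apply_one, hidx, hξdeg, mul_one, sub_self]
  · rw [Pi.sub_apply, h.coreSet_support hξmem hg, sub_zero, hf]
    simp only [indFun]
    rw [Finset.sum_eq_zero fun x _ => ?_, mul_zero]
    refine extendByZero_of_not_mem J _ fun hmem => hg ?_
    have hgK : g ∈ K := by
      have := (inferInstance : K.Normal).conj_mem _ (hJK hmem) x
      simpa [mul_assoc] using this
    refine ⟨hgK, ?_⟩
    set y := x⁻¹ * g * x with hy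
    obtain ⟨b, hb⟩ := exists_hom_of_degree_one (isCharacter_of_irr hα) (h.alpha_one hα)
    -- `y` fixes `α ≠ 1`, so it centralizes something in `P#`
    by_contra hno
    push Not at hno
    have hinj : Function.Injective fun z : P =>
        (⟨y * z * y⁻¹, h.P_normal.conj_mem _ z.2 y⟩ : P) * z⁻¹ := fun z z' e => by
      have e' : y * z * y⁻¹ * (z : L)⁻¹ = y * z' * y⁻¹ * (z' : L)⁻¹ := congrArg Subtype.val e
      have hc : y * (z'⁻¹ * z : P) * y⁻¹ = ((z'⁻¹ * z : P) : L) := by
        have hsym : y * z * y⁻¹ * (z : L)⁻¹ * z = y * z' * y⁻¹ * (z' : L)⁻¹ * z := by rw [e']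
        simp only [Subgroup.coe_mul, InvMemClass.coe_inv]
        rw [inv_mul_cancel_right] at hsym
        calc y * ((z' : L)⁻¹ * z) * y⁻¹ = (y * z' * y⁻¹)⁻¹ * (y * z * y⁻¹) := by group
          _ = (y * z' * y⁻¹)⁻¹ * (y * z' * y⁻¹ * (z' : L)⁻¹ * z) := by rw [hsym]
          _ = (z' : L)⁻¹ * z := by group
      by_contra hne
      have hd1 : ((z'⁻¹ * z : P) : L) ≠ 1 := fun e1 => hne (inv_mul_eq_one.mp (Subtype.ext e1)).symm
      set d := ((z'⁻¹ * z : P) : L) with hd
      have hdP : d ∈ P := (z'⁻¹ * z : P).2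
      refine hno (x * d * x⁻¹) (h.P_normal.conj_mem _ hdP x) (fun e1 => hd1 (conj_eq_one_iff.mp e1)) ?_
      have hcomm : d * y = y * d := by
        rw [← eq_mul_inv_iff_mul_eq]; exact hc.symm
      calc x * d * x⁻¹ * g = x * (d * y) * x⁻¹ := by rw [hy]; group
        _ = x * (y * d) * x⁻¹ := by rw [hcomm]
        _ = g * (x * d * x⁻¹) := by rw [hy]; group
    refine hα1 (funext fun z => ?_)
    obtain ⟨z₀, hz₀⟩ := Finite.injective_iff_surjective.mp hinj z
    have hfix := congrFun ((mem_inertia P).mp (Subgroup.mem_inf.mp hmem).1) z₀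
    have e1 : b ⟨y * z₀ * y⁻¹, h.P_normal.conj_mem _ z₀.2 y⟩ = b z₀ := Units.ext
      ((congrFun hb _).symm.trans (hfix.trans (congrFun hb _)))
    rw [← hz₀, hb]
    show ((b (_ * _) : ℂˣ) : ℂ) = 1
    rw [map_mul, map_inv, e1, mul_inv_cancel, Units.val_one]
  · rw [classInner_sub_left, hf, h.classInner_ind_one hPJ hχ, zero_sub]
  · have h0 : classInner f ξ₀ = 0 := h.classInner_ind_one hPJ hξmem
    have h0' : classInner ξ₀ f = 0 := by rw [← classInner_comm, h0, map_zero]
    rw [classInner_sub_left, classInner_sub_right, classInner_sub_right, h0, h0', classInner_irr_self hξirr]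
    obtain ⟨n, hn⟩ := classInner_char_nat hfchar hfchar
    rw [hn]
    simp
  · obtain ⟨n, hn⟩ := classInner_char_nat hfchar hfchar
    rw [hn] at hff ⊢
    have hn' : Nat.card J ^ 2 * n = M := by exact_mod_cast hff
    have h3 : 3 * n ≤ 3 * a + (q - 1) * a := by
      refine (Nat.mul_le_mul_left_iff (show 0 < Nat.card J ^ 2 from pow_pos Nat.card_pos 2)).mp ?_
      calc Nat.card J ^ 2 * (3 * n) = 3 * (Nat.card J ^ 2 * n) := by ring
        _ = 3 * M := by rw [hn']
        _ ≤ _ := hMle
    have h3' : (3 : ℝ) * (n : ℝ) ≤ 3 * (a : ℝ) + ((q - 1 : ℕ) : ℝ) * (a : ℝ) := by exact_mod_cast h3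
    rw [Complex.natCast_re]
    linarith

end IsLineSystem

end CfsgLib.OddOrder.S9b
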